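import Cfsg.Agent.Lib.Suzuki.Center
import Mathlib.LinearAlgebra.Matrix.Notation
import Mathlib.LinearAlgebra.Matrix.GeneralLinearGroup.Defs

/-!
Suzuki 2-groups of order `|Z|²` are of type A.
-/

set_option autoImplicit false

namespace Cfsg.Agent.Lib.Suzuki

open Subgroup

universe u v

section Field

variable {F : Type*} [Field F] [Fintype F] [CharP F 2]

/-- an equivariant quadratic map is a product of two distinct automorphisms -/
theorem quadratic_eq {ζ μ : F} (hgen : ∀ x : F, x ≠ 0 → ∃ k : ℕ, ζ ^ k = x) (q : F → F)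
    (hq0 : q 0 = 0) (heq : ∀ x, q (ζ * x) = μ * q x)
    (hl : ∀ x x' y, q (x + x' + y) + q (x + x') + q y =
      (q (x + y) + q x + q y) + (q (x' + y) + q x' + q y))
    (hne : ∃ x y, q (x + y) + q x + q y ≠ 0) :
    ∃ σ τ : F ≃+* F, σ ≠ τ ∧ ∀ x, q x = q 1 * (σ x * τ x) := by
  classical
  haveI : Fintype (F ≃+* F) := Cfsg.Agent.S1140.autFintype
  obtain ⟨c, hc, hcp⟩ := bil_expand (fun x y => q (x + y) + q x + q y) hl
    (fun x y y' => by
      have h := hl y y' x
      simp only [add_comm (y + y') x, add_comm y x, add_comm y' x] at h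
      linear_combination h)
    (ζ := ζ) (μ := μ) (fun x y => by rw [← mul_add, heq, heq, heq]; ring)
  obtain ⟨p, hp⟩ : ∃ p, c p ≠ 0 := by
    by_contra h
    push Not at h
    obtain ⟨x, y, hxy⟩ := hne
    exact hxy ((hc x y).trans (Finset.sum_eq_zero fun p _ => by rw [h p, zero_mul]))
  have hpow : ∀ k : ℕ, q (ζ ^ k) = q 1 * μ ^ k := by
    intro k
    induction k with
    | zero => simp
    | succ k ih => rw [pow_succ', heq, ih]; ring
  have hform : ∀ x, q x = q 1 * (p.1 x * p.2 x) := by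
    intro x
    by_cases hx : x = 0
    · simp [hx, hq0]
    · obtain ⟨k, rfl⟩ := hgen x hx
      rw [hpow, map_pow, map_pow, ← mul_pow, hcp p hp]
  refine ⟨p.1, p.2, fun h => ?_, hform⟩
  obtain ⟨x, y, hxy⟩ := hne
  apply hxy
  rw [hform (x + y), hform x, hform y, h, map_add]
  linear_combination
    (q 1 * (p.2 x * p.2 x + p.2 y * p.2 y + p.2 x * p.2 y)) * CharTwo.two_eq_zero (R := F)

/-- if `x ↦ x * φ x` is injective then `φ` has odd order -/
theorem odd_orderOf (φ : F ≃+* F) (hinj : Function.Injective fun x => x * φ x) : Odd (orderOf φ) := by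
  classical
  haveI : Fintype (F ≃+* F) := Cfsg.Agent.S1140.autFintype
  rw [← Nat.not_even_iff_odd]
  rintro ⟨r, hr⟩
  have hN : φ ^ (r + r) = 1 := hr ▸ pow_orderOf_eq_one φ
  have hr0 : r ≠ 0 := fun h => by
    have := orderOf_pos φ
    omega
  have happ : ∀ (j : ℕ) (w : F), φ ((φ ^ j) w) = (φ ^ (j + 1)) w := fun j w => by rw [pow_succ']; rfl
  -- the even part of the trace is fixed by `φ`
  have hfix : ∀ w : F, φ (∑ i ∈ Finset.range r, (φ ^ (2 * i)) w) = ∑ i ∈ Finset.range r, (φ ^ (2 * i)) w := by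
    intro w
    by_contra hne
    set z := ∑ i ∈ Finset.range r, (φ ^ (2 * i)) w with hz
    have hz0 : z ≠ 0 := fun h => hne (by rw [h, map_zero])
    have hz2 : φ (φ z) = z := by
      rw [hz, map_sum, map_sum]
      have h1 := Finset.sum_range_succ' (fun i => (φ ^ (2 * i)) w) r
      have h2 := Finset.sum_range_succ (fun i => (φ ^ (2 * i)) w) r
      have h3 : (φ ^ (2 * r)) w = (φ ^ (2 * 0)) w := by rw [two_mul, hN]; simp
      rw [h2, h3] at h1
      rw [add_right_cancel h1]
      exact Finset.sum_congr rfl fun i _ => by rw [happ, happ]; rfl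
    have hφz : φ z ≠ 0 := fun h => hz0 (by simpa using h)
    have h1 : z / φ z = 1 := hinj (by
      simp only [map_one, mul_one]
      rw [map_div₀, hz2, div_mul_div_comm, mul_comm z (φ z), div_self (mul_ne_zero hφz hz0)])
    exact hne ((div_eq_one_iff_eq hφz).mp h1).symm
  -- so the sum of the powers of `φ` vanishes
  have hsum : ∀ w : F, ∑ j ∈ Finset.range (r + r), (φ ^ j) w = 0 := by
    intro w
    have key : ∀ m : ℕ, ∑ j ∈ Finset.range (m + m), (φ ^ j) w =
        ∑ i ∈ Finset.range m, (φ ^ (2 * i)) w + φ (∑ i ∈ Finset.range m, (φ ^ (2 * i)) w) := by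
      intro m
      induction m with
      | zero => simp
      | succ m ih =>
        rw [show m + 1 + (m + 1) = m + m + 1 + 1 by omega, Finset.sum_range_succ, Finset.sum_range_succ,
          ih, Finset.sum_range_succ, map_add, happ, ← two_mul]
        ring
    rw [key, hfix, CharTwo.add_self_eq_zero]
  have h := aut_coeff_zero (F := F)
    (d := fun σ => if σ ∈ (Finset.range (r + r)).image (φ ^ ·) then 1 else 0) fun w => by
    simp only [ite_mul, one_mul, zero_mul, Finset.sum_ite_mem, Finset.univ_inter]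
    rw [Finset.sum_image]
    · exact hsum w
    · intro i hi j hj hij
      exact pow_injOn_Iio_orderOf (Finset.mem_range.mp hi |>.trans_le hr.ge)
        (Finset.mem_range.mp hj |>.trans_le hr.ge) hij
  have h1 := congrFun h 1
  simp only [Pi.zero_apply] at h1
  rw [if_pos (Finset.mem_image.mpr ⟨0, Finset.mem_range.mpr (by omega), pow_zero φ⟩)] at h1
  exact one_ne_zero h1

end Field

section Iso

variable {F : Type*} [AddCommGroup F] {P : Type u} {A : Type v} [Group P] [Group A]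

/-- extensions of an elementary group by a central one with the same squaring map are isomorphic -/
theorem iso_of_quadratic [Finite P] [Finite A] (q : F → F)
    (ι : F → P) (hι : ∀ x y, ι (x + y) = ι x * ι y) (hιinj : Function.Injective ι)
    (hιc : ∀ x, ι x ∈ center P) (π : P → F) (hπ : ∀ a b, π (a * b) = π a + π b)
    (hπs : Function.Surjective π) (hπk : ∀ a, π a = 0 ↔ a ∈ Set.range ι)
    (hsq : ∀ a, a * a = ι (q (π a)))
    (ι' : F → A) (hι' : ∀ x y, ι' (x + y) = ι' x * ι' y) (hιinj' : Function.Injective ι')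
    (hιc' : ∀ x, ι' x ∈ center A) (π' : A → F) (hπ' : ∀ a b, π' (a * b) = π' a + π' b)
    (hπs' : Function.Surjective π') (hπk' : ∀ a, π' a = 0 ↔ a ∈ Set.range ι')
    (hsq' : ∀ a, a * a = ι' (q (π' a))) : Nonempty (P ≃* A) := by
  let fι : Multiplicative F →* P := MonoidHom.mk' (fun x => ι x.toAdd) fun x y => hι _ _
  let fι' : Multiplicative F →* A := MonoidHom.mk' (fun x => ι' x.toAdd) fun x y => hι' _ _
  let fπ : P →* Multiplicative F := MonoidHom.mk' (fun a => .ofAdd (π a)) fun a b => hπ a b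
  let fπ' : A →* Multiplicative F := MonoidHom.mk' (fun a => .ofAdd (π' a)) fun a b => hπ' a b
  let H : Subgroup (P × A) := (fπ.comp (MonoidHom.fst P A)).eqLocus (fπ'.comp (MonoidHom.snd P A))
  have hH : ∀ x : P × A, x ∈ H ↔ π x.1 = π' x.2 := fun x => Iff.rfl
  let D : Subgroup (P × A) := (fι.prod fι').range
  have hD : ∀ x : P × A, x ∈ D ↔ ∃ z, (ι z, ι' z) = x := fun x => by
    constructor
    · rintro ⟨z, hz⟩; exact ⟨z.toAdd, hz⟩
    · rintro ⟨z, hz⟩; exact ⟨.ofAdd z, hz⟩
  have hι0 : ι 0 = 1 := map_one fι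
  have hι0' : ι' 0 = 1 := map_one fι'
  have hDH : D ≤ H := fun x hx => by
    obtain ⟨z, rfl⟩ := (hD x).mp hx
    rw [hH, (hπk _).mpr ⟨z, rfl⟩, (hπk' _).mpr ⟨z, rfl⟩]
  have hDc : ∀ d ∈ D, ∀ x : P × A, x * d = d * x := fun d hd x => by
    obtain ⟨z, rfl⟩ := (hD d).mp hd
    exact Prod.ext (mem_center_iff.mp (hιc z) x.1) (mem_center_iff.mp (hιc' z) x.2)
  have hsqD : ∀ h ∈ H, h * h ∈ D := fun h hh => (hD _).mpr ⟨q (π h.1), Prod.ext (hsq h.1).symm (by
    change ι' (q (π h.1)) = h.2 * h.2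
    rw [(hH h).mp hh, hsq'])⟩
  -- a maximal subgroup between `D` and `H` meeting the first kernel trivially
  obtain ⟨C, ⟨hDC, hCH, hC1⟩, hmax⟩ := Set.Finite.exists_maximal
    (s := {C : Subgroup (P × A) | D ≤ C ∧ C ≤ H ∧ ∀ z, ((ι z, 1) : P × A) ∈ C → z = 0})
    (Set.toFinite _) ⟨D, le_rfl, hDH, fun z hz => by
      obtain ⟨w, hw⟩ := (hD _).mp hz
      have h1 : w = 0 := hιinj' ((congrArg Prod.snd hw).trans hι0'.symm)
      exact hιinj ((congrArg Prod.fst hw).symm.trans (by rw [h1]))⟩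
  have hgen : ∀ h ∈ H, ∃ z, h * (ι z, 1) ∈ C := by
    intro h hh
    by_contra hcon
    push Not at hcon
    have hswap : ∀ c ∈ C, h * c * h⁻¹ ∈ C := by
      intro c hc
      have hcH := hCH hc
      have h1 := hsqD _ hh
      have h2 : h * c * h⁻¹ = (h * c * (h * c)) * (h * h)⁻¹ * c⁻¹ := by
        have h3 := hDc _ (inv_mem h1) c⁻¹
        rw [mul_assoc (h * c * (h * c)) ((h * h)⁻¹) c⁻¹, ← h3]
        group
      rw [h2]
      exact mul_mem (mul_mem (hDC (hsqD _ (mul_mem hh hcH))) (hDC (inv_mem h1))) (inv_mem hc)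
    let C' : Subgroup (P × A) :=
      { carrier := {x | x ∈ C ∨ h⁻¹ * x ∈ C}
        mul_mem' := by
          rintro a b (ha | ha) (hb | hb)
          · exact Or.inl (mul_mem ha hb)
          · refine Or.inr ?_
            have hd := hDC (hsqD _ hh)
            have h3 := mul_mem (mul_mem (inv_mem hd) (mul_mem (hswap a ha) hd)) hb
            convert h3 using 1
            group
          · exact Or.inr (by rw [← mul_assoc]; exact mul_mem ha hb)
          · refine Or.inl ?_
            have h3 := mul_mem (mul_mem (hswap _ ha) (hDC (hsqD _ hh))) hb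
            convert h3 using 1
            group
        one_mem' := Or.inl (one_mem _)
        inv_mem' := by
          rintro a (ha | ha)
          · exact Or.inl (inv_mem ha)
          · refine Or.inr ?_
            have hd := hDC (hsqD _ hh)
            have h3 := mul_mem (inv_mem hd) (hswap _ (inv_mem ha))
            convert h3 using 1
            group }
    have hle : C' ≤ C := hmax ⟨fun x hx => Or.inl (hDC hx),
      fun x hx => hx.elim (fun h1 => hCH h1)
        (fun h1 => by simpa using mul_mem hh (hCH h1)),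
      fun z hz => hz.elim (hC1 z) fun hz => (hcon z (by
        have hd := hDC (hsqD _ hh)
        have h3 := mul_mem hd hz
        convert h3 using 1
        group)).elim⟩ (fun x hx => Or.inl hx)
    exact hcon 0 (by
      rw [hι0]
      change h * 1 ∈ C
      rw [mul_one]
      exact hle (Or.inr (by rw [inv_mul_cancel]; exact one_mem _)))
  -- the two projections are bijective
  have hsnd : ∀ x ∈ C, x.2 = 1 → x = 1 := by
    intro x hx h2
    have h1 : π x.1 = 0 := by
      rw [(hH x).mp (hCH hx), h2, (hπk' _).mpr ⟨0, hι0'⟩]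
    obtain ⟨z, hz⟩ := (hπk _).mp h1
    have h0 : z = 0 := hC1 z (by convert hx using 1; exact Prod.ext hz h2.symm)
    exact Prod.ext (by rw [← hz, h0, hι0]; rfl) h2
  have hfst : ∀ x ∈ C, x.1 = 1 → x = 1 := by
    intro x hx h1
    have h2 : π' x.2 = 0 := by
      rw [← (hH x).mp (hCH hx), h1, (hπk _).mpr ⟨0, hι0⟩]
    obtain ⟨z, hz⟩ := (hπk' _).mp h2
    have h3 : z = 0 := hC1 z (by
      have h4 := mul_mem (hDC ((hD _).mpr ⟨z, rfl⟩)) (inv_mem hx)
      convert h4 using 1
      refine Prod.ext ?_ ?_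
      · change ι z = ι z * (x.1)⁻¹
        rw [h1, inv_one, mul_one]
      · change (1 : A) = ι' z * (x.2)⁻¹
        rw [← hz, mul_inv_cancel])
    exact Prod.ext h1 (by rw [← hz, h3, hι0']; rfl)
  let f : C →* P := (MonoidHom.fst P A).comp C.subtype
  let g : C →* A := (MonoidHom.snd P A).comp C.subtype
  have hf : Function.Bijective f := by
    refine ⟨(injective_iff_map_eq_one f).mpr fun x hx => Subtype.ext (hfst x x.2 hx), fun p => ?_⟩
    obtain ⟨a, ha⟩ := hπs' (π p)
    obtain ⟨z, hz⟩ := hgen (p, a) ((hH _).mpr ha.symm)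
    refine ⟨⟨_, mul_mem hz (inv_mem (hDC ((hD _).mpr ⟨z, rfl⟩)))⟩, ?_⟩
    change p * ι z * (ι z)⁻¹ = p
    rw [mul_inv_cancel_right]
  have hg : Function.Bijective g := by
    refine ⟨(injective_iff_map_eq_one g).mpr fun x hx => Subtype.ext (hsnd x x.2 hx), fun a => ?_⟩
    obtain ⟨p, hp⟩ := hπs (π' a)
    obtain ⟨z, hz⟩ := hgen (p, a) ((hH _).mpr hp)
    refine ⟨⟨_, hz⟩, ?_⟩
    change a * 1 = a
    rw [mul_one]
  exact ⟨(MulEquiv.ofBijective f hf).symm.trans (MulEquiv.ofBijective g hg)⟩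

end Iso

section Group

open Matrix

variable {F : Type v} [Field F] [CharP F 2]

/-- the matrix with parameters `(x, y)` -/
def mA (φ : F →+* F) (x y : F) : GL (Fin 3) F :=
  ⟨!![1, 0, 0; x, 1, 0; y, φ x, 1], !![1, 0, 0; x, 1, 0; y + φ x * x, φ x, 1],
    by
      have h2 := CharTwo.two_eq_zero (R := F)
      ext i j
      fin_cases i <;> fin_cases j <;> simp [Matrix.mul_apply, Fin.sum_univ_three] <;>
        first
          | linear_combination (x : F) * h2
          | linear_combination (φ x : F) * h2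
          | linear_combination (y + φ x * x) * h2,
    by
      have h2 := CharTwo.two_eq_zero (R := F)
      ext i j
      fin_cases i <;> fin_cases j <;> simp [Matrix.mul_apply, Fin.sum_univ_three] <;>
        first
          | linear_combination (x : F) * h2
          | linear_combination (φ x : F) * h2
          | linear_combination (y + φ x * x) * h2⟩

theorem coe_mA (φ : F →+* F) (x y : F) :
    ((mA φ x y : GL (Fin 3) F) : Matrix (Fin 3) (Fin 3) F) = !![1, 0, 0; x, 1, 0; y, φ x, 1] := rfl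

theorem mA_mul (φ : F →+* F) (x y x' y' : F) :
    mA φ x y * mA φ x' y' = mA φ (x + x') (y + y' + φ x * x') := by
  apply Units.ext
  rw [Units.val_mul, coe_mA, coe_mA, coe_mA]
  ext i j
  fin_cases i <;> fin_cases j <;> simp [Matrix.mul_apply, Fin.sum_univ_three]
  ring

theorem mA_mem (φ : F →+* F) (x y : F) : mA φ x y ∈ Cfsg.suzukiTypeA F φ :=
  subset_closure ⟨x, y, coe_mA φ x y⟩

theorem exists_mA_of_mem (φ : F →+* F) {g : GL (Fin 3) F} (hg : g ∈ Cfsg.suzukiTypeA F φ) :
    ∃ x y, g = mA φ x y := by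
  induction hg using closure_induction with
  | mem g hg => obtain ⟨x, y, h⟩ := hg; exact ⟨x, y, Units.ext h⟩
  | one =>
    refine ⟨0, 0, Units.ext ?_⟩
    rw [coe_mA]
    ext i j
    fin_cases i <;> fin_cases j <;> simp
  | mul g g' _ _ ihg ihg' =>
    obtain ⟨x, y, rfl⟩ := ihg
    obtain ⟨x', y', rfl⟩ := ihg'
    exact ⟨_, _, mA_mul φ x y x' y'⟩
  | inv g _ ih =>
    obtain ⟨x, y, rfl⟩ := ih
    refine ⟨x, y + φ x * x, inv_eq_of_mul_eq_one_right ?_⟩
    rw [mA_mul]
    apply Units.ext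
    rw [coe_mA, CharTwo.add_self_eq_zero, map_zero]
    have h2 := CharTwo.two_eq_zero (R := F)
    ext i j
    fin_cases i <;> fin_cases j <;> simp
    linear_combination (y + φ x * x) * h2

theorem mA_inj (φ : F →+* F) {x y x' y' : F} (h : mA φ x y = mA φ x' y') : x = x' ∧ y = y' := by
  have h' := congrArg (fun g : GL (Fin 3) F => (g : Matrix (Fin 3) (Fin 3) F)) h
  simp only [coe_mA] at h'
  exact ⟨by simpa using congrFun (congrFun h' 1) 0, by simpa using congrFun (congrFun h' 2) 0⟩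

/-- `iso_of_quadratic` with the group of type A as target -/
theorem iso_suzukiTypeA [Finite F] {P : Type u} [Group P] [Finite P] (φ : F →+* F)
    (ι : F → P) (hι : ∀ x y, ι (x + y) = ι x * ι y) (hιinj : Function.Injective ι)
    (hιc : ∀ x, ι x ∈ center P) (π : P → F) (hπ : ∀ a b, π (a * b) = π a + π b)
    (hπs : Function.Surjective π) (hπk : ∀ a, π a = 0 ↔ a ∈ Set.range ι)
    (hsq : ∀ a, a * a = ι (π a * φ (π a))) : Nonempty (P ≃* Cfsg.suzukiTypeA F φ) := by
  classical
  haveI : Fintype F := Fintype.ofFinite F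
  haveI : Finite (Cfsg.suzukiTypeA F φ) := inferInstance
  choose X Y hXY using fun g : Cfsg.suzukiTypeA F φ => exists_mA_of_mem φ g.2
  have hcomm : ∀ y x' y', mA φ 0 y * mA φ x' y' = mA φ x' y' * mA φ 0 y := fun y x' y' => by
    rw [mA_mul, mA_mul, map_zero]; congr 1 <;> ring
  refine iso_of_quadratic (fun x => x * φ x) ι hι hιinj hιc π hπ hπs hπk hsq
    (fun y => ⟨mA φ 0 y, mA_mem φ 0 y⟩) (fun x y => Subtype.ext ?_) (fun x y h => ?_) (fun y => ?_) X
    (fun a b => ?_) (fun x => ⟨⟨mA φ x 0, mA_mem φ x 0⟩, ?_⟩) (fun a => ⟨fun h => ?_, ?_⟩) (fun a => ?_)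
  · change mA φ 0 (x + y) = mA φ 0 x * mA φ 0 y
    rw [mA_mul]; congr 1 <;> simp
  · exact (mA_inj φ (congrArg Subtype.val h)).2
  · rw [mem_center_iff]
    intro g
    apply Subtype.ext
    change (g : GL (Fin 3) F) * mA φ 0 y = mA φ 0 y * g
    rw [hXY g]
    exact (hcomm y _ _).symm
  · have h : mA φ (X (a * b)) (Y (a * b)) = mA φ (X a) (Y a) * mA φ (X b) (Y b) := by
      rw [← hXY, ← hXY, ← hXY]; rfl
    rw [mA_mul] at h
    exact (mA_inj φ h).1
  · exact (mA_inj φ (hXY ⟨mA φ x 0, mA_mem φ x 0⟩)).1.symm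
  · refine ⟨Y a, Subtype.ext ?_⟩
    change mA φ 0 (Y a) = (a : GL (Fin 3) F)
    rw [hXY a, h]
  · rintro ⟨y, rfl⟩
    exact (mA_inj φ (hXY ⟨mA φ 0 y, mA_mem φ 0 y⟩)).1.symm
  · apply Subtype.ext
    change (a : GL (Fin 3) F) * a = mA φ 0 (X a * φ (X a))
    rw [hXY a, mA_mul, CharTwo.add_self_eq_zero, CharTwo.add_self_eq_zero, zero_add, mul_comm]

end Group

/-- a Suzuki 2-group of order `|Z|²` is of type A -/
theorem exists_typeA {P : Type u} [Group P] [Finite P] {κ : MulAut P} (hP : IsPGroup 2 P)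
    (htr : InvTrans κ) (hne : ∃ x y : P, x * y ≠ y * x)
    (hcard : Nat.card P = Nat.card (center P) ^ 2) :
    ∃ (F : Type) (_ : Field F) (_ : Fintype F) (φ : F ≃+* F), Fintype.card F = Nat.card (center P) ∧
      φ ≠ RingEquiv.refl F ∧ Odd (orderOf φ) ∧ Nonempty (P ≃* Cfsg.suzukiTypeA F (φ : F →+* F)) := by
  classical
  haveI : Fact (Nat.Prime 2) := ⟨Nat.prime_two⟩
  have hZ2 := center_mul_self hP htr hne
  set Z := center P with hZ
  have hzc : ∀ {a : P}, a ∈ Z → ∀ x : P, x * a = a * x := fun {a} ha x => mem_center_iff.mp ha x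
  have hinvol : ∀ x : P, x * x = 1 → x ∈ Z := fun x hx => invol_central hP htr hx
  have hZne : Z ≠ ⊤ := fun h => by
    obtain ⟨x, y, hxy⟩ := hne
    exact hxy (hzc (h ▸ mem_top y) x)
  obtain ⟨y₁, -, hy₁U, hy₁Z⟩ := exists_mem_layer hP (A := Z) (N := ⊤) le_top hZne
  set U := layer Z with hU
  haveI : Nontrivial P := ⟨⟨y₁, 1, fun h => hy₁Z (h ▸ one_mem _)⟩⟩
  haveI hZnt : Nontrivial Z := hP.center_nontrivial
  obtain ⟨n, hn0, hn⟩ := (hP.to_subgroup Z).nontrivial_iff_card.mp hZnt
  -- squaring maps the layer onto `Z`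
  have honto : ∀ x ∈ Z, ∃ y ∈ U, y * y = x := by
    intro x hx
    by_cases hx1 : x = 1
    · exact ⟨1, one_mem _, by rw [hx1, one_mul]⟩
    have hy2 : y₁ * y₁ ∈ Z := (mem_layer.mp hy₁U).2
    obtain ⟨j, hj⟩ := htr (y₁ * y₁) x (fun h => hy₁Z (hinvol _ h)) (hZ2 _ hy2) hx1 (hZ2 _ hx)
    exact ⟨(κ ^ j) y₁, (inv_layer (inv_center κ)).pow j hy₁U, by rw [← map_mul]; exact hj⟩
  -- hence the layer is everything
  have hUtop : U = ⊤ := by
    haveI : Finite U := inferInstance
    let N := Z.subgroupOf U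
    let f : U ⧸ N → Z := fun c => ⟨(c.out : P) * (c.out : P), (mem_layer.mp c.out.2).2⟩
    have hf : Function.Surjective f := by
      rintro ⟨x, hx⟩
      obtain ⟨y, hy, hyx⟩ := honto x hx
      refine ⟨((⟨y, hy⟩ : U) : U ⧸ N), Subtype.ext ?_⟩
      obtain ⟨m, hm⟩ := QuotientGroup.mk_out_eq_mul N (⟨y, hy⟩ : U)
      have hmZ : ((m : U) : P) ∈ Z := mem_subgroupOf.mp m.2
      change ((Quotient.out _ : U) : P) * ((Quotient.out _ : U) : P) = x
      rw [hm]
      change y * ((m : U) : P) * (y * ((m : U) : P)) = x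
      rw [mul_assoc, ← mul_assoc _ y, ← hzc hmZ y, mul_assoc y, hZ2 _ hmZ, mul_one, hyx]
    have h1 : Nat.card Z ≤ Nat.card (U ⧸ N) := Nat.card_le_card_of_surjective f hf
    have h2 : Nat.card U = Nat.card (U ⧸ N) * Nat.card N := Subgroup.card_eq_card_quotient_mul_card_subgroup N
    have h3 : Nat.card N = Nat.card Z := Nat.card_congr (Subgroup.subgroupOfEquivOfLe
      (fun z hz => mem_layer.mpr ⟨fun x => by
        rw [← hzc hz x]; simp, by rw [hZ2 z hz]; exact one_mem _⟩)).toEquiv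
    apply Subgroup.eq_top_of_le_card
    rw [hcard, h2, h3, pow_two]
    exact Nat.mul_le_mul_right _ h1
  have hlay : ∀ y : P, (∀ x : P, y * x * y⁻¹ * x⁻¹ ∈ Z) ∧ y * y ∈ Z := fun y =>
    mem_layer.mp (show y ∈ U from hUtop ▸ mem_top y)
  -- `Z` and `V = P ⧸ Z` as the field
  have hTiter : ∀ (j : ℕ) (x : P), (κ ^ j) x = (⇑κ)^[j] x := fun j x => pow_apply_eq_iterate κ j x
  let TZ : Z ≃* Z := MulEquiv.ofBijective
    ((κ.toMonoidHom.comp Z.subtype).codRestrict Z fun x => inv_center κ _ x.2)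
    (Finite.injective_iff_bijective.mp fun a b hab =>
      Subtype.ext (κ.injective (congrArg Subtype.val hab)))
  have hTZiter : ∀ (j : ℕ) (z : Z), ((TZ^[j] z : Z) : P) = (κ ^ j) z := by
    intro j
    induction j with
    | zero => intro z; simp
    | succ j ih =>
      intro z
      rw [Function.iterate_succ_apply', pow_succ', MulAut.mul_apply, ← ih z]
      rfl
  obtain ⟨μ, -, eZ, heZ, heZT⟩ := exists_field_model (V := Z) (fun x => Subtype.ext (hZ2 x x.2)) TZ hn0 hn
    (fun v w hv hw => by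
      obtain ⟨j, hj⟩ := htr v w (fun h => hv (Subtype.ext h)) (hZ2 v v.2) (fun h => hw (Subtype.ext h))
        (hZ2 w w.2)
      exact ⟨j, Subtype.ext ((hTZiter j v).trans hj)⟩)
  have hcard' : Nat.card (P ⧸ Z) = Nat.card Z := by
    have h := Subgroup.card_eq_card_quotient_mul_card_subgroup Z
    rw [hcard, pow_two] at h
    exact (Nat.eq_of_mul_eq_mul_right Nat.card_pos h).symm
  let sq : P ⧸ Z → Z := Quotient.lift (fun y : P => (⟨y * y, (hlay y).2⟩ : Z)) (by
    intro a b hab
    rw [← Quotient.eq_iff_equiv] at hab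
    obtain ⟨m, hm, rfl⟩ : ∃ m ∈ Z, b = a * m :=
      ⟨a⁻¹ * b, QuotientGroup.eq.mp hab, (mul_inv_cancel_left a b).symm⟩
    apply Subtype.ext
    change a * a = a * m * (a * m)
    rw [mul_assoc a m, ← mul_assoc m a m, ← hzc hm a, mul_assoc a m m, hZ2 m hm, mul_one])
  have hsqmk : ∀ y : P, ((sq (y : P ⧸ Z) : Z) : P) = y * y := fun y => rfl
  have hsqb : Function.Bijective sq := by
    refine (Nat.bijective_iff_surjective_and_card sq).mpr ⟨fun z => ?_, hcard'⟩
    obtain ⟨y, -, hy⟩ := honto z z.2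
    exact ⟨y, Subtype.ext ((hsqmk y).trans hy)⟩
  have hkmap : Subgroup.map (κ : P ≃* P).toMonoidHom Z = Z := by
    ext x
    constructor
    · rintro ⟨y, hy, rfl⟩; exact inv_center κ y hy
    · intro hx
      obtain ⟨y, hy, hxy⟩ := (inv_center κ).exists_eq hx
      exact ⟨y, hy, hxy⟩
  let TV : P ⧸ Z ≃* P ⧸ Z := QuotientGroup.congr Z Z κ hkmap
  have hTV : ∀ y : P, TV (y : P ⧸ Z) = ((κ y : P) : P ⧸ Z) := fun y => rfl
  have hsqT : ∀ c, sq (TV c) = TZ (sq c) := by
    intro c
    induction c using QuotientGroup.induction_on with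
    | H y =>
      apply Subtype.ext
      rw [hTV, hsqmk, ← map_mul]
      rfl
  have hVexp : ∀ c : P ⧸ Z, c * c = 1 := by
    intro c
    induction c using QuotientGroup.induction_on with
    | H y => exact (QuotientGroup.eq_one_iff _).mpr (hlay y).2
  obtain ⟨ζ, hζ, eV, heV, heVT⟩ := exists_field_model (V := P ⧸ Z) hVexp TV hn0 (hcard'.trans hn)
    (fun v w hv hw => by
      have hne1 : ∀ {c : P ⧸ Z}, c ≠ 1 → (sq c : P) ≠ 1 := fun {c} hc h => hc (hsqb.1 (Subtype.ext (by
        rw [h]; exact ((hsqmk 1).trans (one_mul 1)).symm)))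
      obtain ⟨j, hj⟩ := htr (sq v) (sq w) (hne1 hv) (hZ2 _ (sq v).2) (hne1 hw) (hZ2 _ (sq w).2)
      refine ⟨j, hsqb.1 (Subtype.ext ?_)⟩
      rw [← hj, ← hTZiter]
      clear hj
      induction j with
      | zero => rfl
      | succ j ih =>
        rw [Function.iterate_succ_apply', Function.iterate_succ_apply', hsqT, Subtype.ext ih])
  let F := GaloisField 2 n
  letI : Fintype F := Fintype.ofFinite _
  let q : F → F := fun x => eZ (sq (eV.symm x))
  have hqb : Function.Bijective q := eZ.bijective.comp (hsqb.comp eV.symm.bijective)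
  have heV1 : eV 1 = 0 := by have h := heV 1 1; rwa [mul_one, eq_comm, add_eq_left] at h
  have heZ1 : eZ 1 = 0 := by have h := heZ 1 1; rwa [mul_one, eq_comm, add_eq_left] at h
  let proj : P → F := fun a => eV (a : P ⧸ Z)
  have hprojmul : ∀ a b, proj (a * b) = proj a + proj b := fun a b => by
    simp only [proj, QuotientGroup.mk_mul, heV]
  have hprojsurj : Function.Surjective proj := eV.surjective.comp QuotientGroup.mk_surjective
  have hqproj : ∀ a, q (proj a) = eZ ⟨a * a, (hlay a).2⟩ := fun a => by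
    simp only [q, proj, Equiv.symm_apply_apply]; rfl
  have hB : ∀ a b : P,
      q (proj a + proj b) + q (proj a) + q (proj b) = eZ ⟨b * a * b⁻¹ * a⁻¹, (hlay b).1 a⟩ := by
    intro a b
    rw [← hprojmul, hqproj, hqproj, hqproj]
    have h : (⟨a * b * (a * b), (hlay (a * b)).2⟩ : Z) =
        ⟨b * a * b⁻¹ * a⁻¹, (hlay b).1 a⟩ * (⟨a * a, (hlay a).2⟩ * ⟨b * b, (hlay b).2⟩) := by
      apply Subtype.ext
      change a * b * (a * b) = b * a * b⁻¹ * a⁻¹ * (a * a * (b * b))
      calc a * b * (a * b) = a * (b * a * b⁻¹ * a⁻¹) * a * b * b := by group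
        _ = _ := by rw [hzc ((hlay b).1 a) a]; group
    rw [h, heZ, heZ]
    linear_combination (eZ ⟨a * a, (hlay a).2⟩ + eZ ⟨b * b, (hlay b).2⟩) * CharTwo.two_eq_zero (R := F)
  have heq : ∀ x, q (ζ * x) = μ * q x := by
    intro x
    have h : eV.symm (ζ * x) = TV (eV.symm x) := by
      rw [Equiv.symm_apply_eq, heVT, Equiv.apply_symm_apply]
    simp only [q]
    rw [h, hsqT, heZT]
  have hq0 : q 0 = 0 := by
    obtain h := hqproj 1
    rw [show proj 1 = 0 from heV1] at h
    rw [h, ← heZ1]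
    exact congrArg eZ (Subtype.ext (one_mul 1))
  obtain ⟨σ, τ, hστ, hform⟩ := quadratic_eq hζ q hq0 heq (fun x x' y => by
      obtain ⟨a, rfl⟩ := hprojsurj x
      obtain ⟨a', rfl⟩ := hprojsurj x'
      obtain ⟨b, rfl⟩ := hprojsurj y
      rw [← hprojmul a a', hB, hB, hB, ← heZ]
      refine congrArg eZ (Subtype.ext ?_)
      change b * (a * a') * b⁻¹ * (a * a')⁻¹ = b * a * b⁻¹ * a⁻¹ * (b * a' * b⁻¹ * a'⁻¹)
      calc b * (a * a') * b⁻¹ * (a * a')⁻¹
          = b * a * b⁻¹ * (b * a' * b⁻¹ * a'⁻¹) * a⁻¹ := by group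
        _ = _ := by rw [mul_assoc _ _ a⁻¹, ← hzc ((hlay b).1 a') a⁻¹, ← mul_assoc])
    (by
      obtain ⟨a, b, hab⟩ := hne
      refine ⟨proj a, proj b, fun h => hab ?_⟩
      rw [hB, ← heZ1] at h
      have h1 : b * a * b⁻¹ * a⁻¹ = 1 := congrArg Subtype.val (eZ.injective h)
      rw [mul_inv_eq_one, mul_inv_eq_iff_eq_mul] at h1
      exact h1.symm)
  have hc0 : q 1 ≠ 0 := fun h => one_ne_zero (hqb.1 (h.trans hq0.symm))
  let φ : F ≃+* F := σ.symm.trans τ
  have hformφ : ∀ x, q x = q 1 * (σ x * φ (σ x)) := fun x => by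
    rw [hform x]; simp [φ]
  refine ⟨F, inferInstance, inferInstance, φ, ?_, fun h => ?_, odd_orderOf φ ?_, ?_⟩
  · rw [← Nat.card_eq_fintype_card, hn]
    exact GaloisField.card 2 n (by omega)
  · refine hστ (RingEquiv.ext fun x => ?_)
    simpa [φ] using (congrArg (fun f : F ≃+* F => f (σ x)) h).symm
  · intro x y hxy
    obtain ⟨x, rfl⟩ := σ.surjective x
    obtain ⟨y, rfl⟩ := σ.surjective y
    have h : q x = q y := by rw [hformφ x, hformφ y]; exact congrArg (q 1 * ·) hxy
    rw [hqb.1 h]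
  · refine iso_suzukiTypeA (φ : F →+* F) (fun w => ((eZ.symm (q 1 * w) : Z) : P)) (fun x y => ?_)
      (fun x y h => ?_) (fun x => (eZ.symm _).2) (fun a => σ (proj a))
      (fun a b => by rw [hprojmul, map_add]) (σ.surjective.comp hprojsurj) (fun a => ?_) (fun a => ?_)
    · rw [← Subgroup.coe_mul]
      refine congrArg Subtype.val ?_
      rw [Equiv.symm_apply_eq, heZ, Equiv.apply_symm_apply, Equiv.apply_symm_apply, mul_add]
    · exact mul_left_cancel₀ hc0 (eZ.symm.injective (Subtype.ext h))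
    · constructor
      · intro h
        have h1 : (a : P ⧸ Z) = 1 := eV.injective ((σ.injective (h.trans (map_zero σ).symm)).trans heV1.symm)
        refine ⟨(q 1)⁻¹ * eZ ⟨a, (QuotientGroup.eq_one_iff a).mp h1⟩, ?_⟩
        simp only
        rw [mul_inv_cancel_left₀ hc0, Equiv.symm_apply_apply]
      · rintro ⟨w, rfl⟩
        simp only [proj]
        rw [(QuotientGroup.eq_one_iff _).mpr (eZ.symm (q 1 * w)).2, heV1, map_zero]
    · change a * a = ((eZ.symm (q 1 * (σ (proj a) * φ (σ (proj a)))) : Z) : P)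
      rw [← hformφ, hqproj, Equiv.symm_apply_apply]

end Cfsg.Agent.Lib.Suzuki
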