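import Cfsg.Agent.Lib.Suzuki.Structure
import Mathlib.FieldTheory.ChevalleyWarning
import Mathlib.LinearAlgebra.QuadraticForm.Basis

/-!
The order of a Suzuki 2-group, by Chevalley–Warning and the free action of the automorphism.
-/

set_option autoImplicit false

namespace Cfsg.Agent.Lib.Suzuki

open Subgroup

universe u

/-- Chevalley–Warning over the field with two elements -/
theorem even_solutions {n d : ℕ} (f : Fin n → MvPolynomial (Fin d) (ZMod 2))
    (h : (∑ t, (f t).totalDegree) < Fintype.card (Fin d)) :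
    2 ∣ Nat.card { x : Fin d → ZMod 2 // ∀ t, MvPolynomial.eval x (f t) = 0 } := by
  haveI : Fact (Nat.Prime 2) := ⟨Nat.prime_two⟩
  rw [Nat.card_eq_fintype_card]
  convert char_dvd_card_solutions_of_fintype_sum_lt 2 h using 3

/-- an anisotropic quadratic map over the field with two elements at most doubles the dimension -/
theorem anisotropic_dim_le {n d : ℕ} (q : (Fin d → ZMod 2) → (Fin n → ZMod 2)) (hq0 : q 0 = 0)
    (hl : ∀ x x' y, QuadraticMap.polar q (x + x') y = QuadraticMap.polar q x y + QuadraticMap.polar q x' y)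
    (haniso : ∀ x, q x = 0 → x = 0) : d ≤ 2 * n := by
  classical
  have hz2 : ∀ a : ZMod 2, a = 0 ∨ a = 1 := fun a => by
    fin_cases a
    · exact Or.inl rfl
    · exact Or.inr rfl
  haveI : Fact (Nat.Prime 2) := ⟨Nat.prime_two⟩
  refine Nat.le_of_not_lt fun hlt => ?_
  have hp0 : ∀ y, QuadraticMap.polar q 0 y = 0 := fun y => by simp [QuadraticMap.polar, hq0]
  let Q : QuadraticMap (ZMod 2) (Fin d → ZMod 2) (Fin n → ZMod 2) :=
    QuadraticMap.ofPolar q
      (fun a x => by rcases hz2 a with rfl | rfl <;> simp [hq0])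
      hl
      (fun a x y => by rcases hz2 a with rfl | rfl <;> simp [hp0])
  let bm := Pi.basisFun (ZMod 2) (Fin d)
  let M := Q.toBilin bm
  let f : Fin n → MvPolynomial (Fin d) (ZMod 2) := fun t =>
    ∑ i, ∑ j, MvPolynomial.C (M (bm i) (bm j) t) * MvPolynomial.X i * MvPolynomial.X j
  have heval : ∀ (x : Fin d → ZMod 2) (t : Fin n), MvPolynomial.eval x (f t) = q x t := by
    intro x t
    have h1 : Q x = M x x := by
      conv_lhs => rw [← QuadraticMap.toQuadraticMap_toBilin Q bm]
      rfl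
    have h2 : M x x = ∑ i, ∑ j, (x i * x j) • M (bm i) (bm j) := by
      have hx : x = ∑ i, x i • bm i := by
        conv_lhs => rw [← bm.sum_repr x]
        simp [bm, Pi.basisFun_repr]
      conv_lhs => rw [hx]
      simp only [map_sum, map_smul, LinearMap.coe_sum, Finset.sum_apply, LinearMap.smul_apply,
        Finset.smul_sum, smul_smul]
      rw [Finset.sum_comm]
      exact Finset.sum_congr rfl fun i _ => Finset.sum_congr rfl fun j _ => by rw [mul_comm]
    change _ = Q x t
    rw [h1, h2]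
    simp only [f, map_sum, map_mul, MvPolynomial.eval_C, MvPolynomial.eval_X, Finset.sum_apply,
      Pi.smul_apply, smul_eq_mul]
    exact Finset.sum_congr rfl fun i _ => Finset.sum_congr rfl fun j _ => by ring
  have hdeg : ∀ t, (f t).totalDegree ≤ 2 := by
    intro t
    refine (MvPolynomial.totalDegree_finset_sum _ _).trans (Finset.sup_le fun i _ => ?_)
    refine (MvPolynomial.totalDegree_finset_sum _ _).trans (Finset.sup_le fun j _ => ?_)
    refine (MvPolynomial.totalDegree_mul _ _).trans ?_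
    refine Nat.add_le_add ((MvPolynomial.totalDegree_mul _ _).trans (Nat.add_le_add
      (le_of_eq (MvPolynomial.totalDegree_C _)) (le_of_eq (MvPolynomial.totalDegree_X i))))
      (le_of_eq (MvPolynomial.totalDegree_X j))
  have hsum : (∑ t, (f t).totalDegree) < Fintype.card (Fin d) := by
    have h1 : ∑ t, (f t).totalDegree ≤ ∑ _t : Fin n, 2 := Finset.sum_le_sum fun t _ => hdeg t
    simp only [Finset.sum_const, Finset.card_univ, Fintype.card_fin, smul_eq_mul] at h1
    rw [Fintype.card_fin]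
    exact lt_of_le_of_lt (h1.trans (le_of_eq (mul_comm n 2))) hlt
  have h := even_solutions f hsum
  have hcard : Nat.card { x : Fin d → ZMod 2 // ∀ t, MvPolynomial.eval x (f t) = 0 } = 1 := by
    rw [Nat.card_eq_one_iff_exists]
    have h0 : ∀ t, MvPolynomial.eval (0 : Fin d → ZMod 2) (f t) = 0 := fun t => by rw [heval, hq0]; rfl
    refine ⟨⟨0, h0⟩, ?_⟩
    rintro ⟨x, hx⟩
    apply Subtype.ext
    exact haniso x (funext fun t => (heval x t).symm.trans (hx t))
  have h2 : 2 ∣ 1 := hcard ▸ h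
  exact absurd (Nat.le_of_dvd one_pos h2) (Nat.not_succ_le_self 1)

variable {P : Type u} [Group P] {κ : MulAut P}

/-- coordinates for a finite group of exponent two -/
theorem exists_fin_model {V : Type*} [Group V] [Finite V] (hexp : ∀ x : V, x * x = 1) :
    ∃ d : ℕ, Nat.card V = 2 ^ d ∧ ∃ e : V ≃ (Fin d → ZMod 2), (∀ a b, e (a * b) = e a + e b) ∧ e 1 = 0 := by
  haveI : Fact (Nat.Prime 2) := ⟨Nat.prime_two⟩
  have hinv : ∀ x : V, x⁻¹ = x := fun x => inv_eq_of_mul_eq_one_right (hexp x)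
  letI : CommGroup V :=
    { ‹Group V› with
      mul_comm := fun a b => by
        calc a * b = (a * b)⁻¹ := (hinv _).symm
          _ = b⁻¹ * a⁻¹ := mul_inv_rev a b
          _ = b * a := by rw [hinv, hinv] }
  letI : Module (ZMod 2) (Additive V) := AddCommGroup.zmodModule (fun x => by
    rw [two_nsmul]; exact hexp x.toMul)
  haveI : Finite (Additive V) := ‹Finite V›
  let b := Module.finBasis (ZMod 2) (Additive V)
  refine ⟨Module.finrank (ZMod 2) (Additive V), ?_, Additive.ofMul.trans b.equivFun.toEquiv,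
    fun a c => map_add b.equivFun _ _, map_zero b.equivFun⟩
  rw [← Nat.card_congr (Additive.ofMul (α := V)).symm, Module.natCard_eq_pow_finrank (K := ZMod 2),
    Nat.card_zmod]

/-- the order of a Suzuki 2-group is `q²` or `q³` -/
theorem card_eq [Finite P] (hP : IsPGroup 2 P) (htr : InvTrans κ) (hreg : Reg κ)
    (hne : ∃ x y : P, x * y ≠ y * x) (hcard : ∀ m : ℕ, κ ^ m = 1 → Nat.card (center P) - 1 ∣ m) :
    Nat.card P = Nat.card (center P) ^ 2 ∨ Nat.card P = Nat.card (center P) ^ 3 := by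
  classical
  haveI : Fact (Nat.Prime 2) := ⟨Nat.prime_two⟩
  have hZ2 := center_mul_self hP htr hne
  have hsq := sq_mem_center hP htr hreg hne
  set Z := center P with hZ
  have hzc : ∀ {a : P}, a ∈ Z → ∀ x : P, x * a = a * x := fun {a} ha x => mem_center_iff.mp ha x
  obtain ⟨d, hd, eV, heV, heV1⟩ := exists_fin_model (V := P ⧸ Z) (fun c => by
    induction c using QuotientGroup.induction_on with
    | H y => exact (QuotientGroup.eq_one_iff _).mpr (hsq y))
  obtain ⟨n, hn, eZ, heZ, heZ1⟩ := exists_fin_model (V := Z) (fun x => Subtype.ext (hZ2 x x.2))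
  let sq : P ⧸ Z → Z := Quotient.lift (fun y : P => (⟨y * y, hsq y⟩ : Z)) (by
    intro a b hab
    rw [← Quotient.eq_iff_equiv] at hab
    obtain ⟨m, hm, rfl⟩ : ∃ m ∈ Z, b = a * m :=
      ⟨a⁻¹ * b, QuotientGroup.eq.mp hab, (mul_inv_cancel_left a b).symm⟩
    apply Subtype.ext
    change a * a = a * m * (a * m)
    rw [mul_assoc a m, ← mul_assoc m a m, ← hzc hm a, mul_assoc a m m, hZ2 m hm, mul_one])
  have hsqmk : ∀ y : P, ((sq (y : P ⧸ Z) : Z) : P) = y * y := fun y => rfl
  have hcommZ : ∀ a b : P, b * a * b⁻¹ * a⁻¹ ∈ Z := fun a b => by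
    have e : b * a * b⁻¹ * a⁻¹ = b * a * (b * a) * (a⁻¹ * (b * b)⁻¹ * a⁻¹⁻¹) * (a * a)⁻¹ := by group
    rw [e]
    exact mul_mem (mul_mem (hsq _) ((inferInstance : Z.Normal).conj_mem _ (inv_mem (hsq b)) a⁻¹))
      (inv_mem (hsq a))
  let q : (Fin d → ZMod 2) → (Fin n → ZMod 2) := fun x => eZ (sq (eV.symm x))
  have hproj : ∀ x, ∃ a : P, eV (a : P ⧸ Z) = x := fun x => by
    obtain ⟨c, rfl⟩ := eV.surjective x
    induction c using QuotientGroup.induction_on with
    | H a => exact ⟨a, rfl⟩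
  have hqa : ∀ a : P, q (eV (a : P ⧸ Z)) = eZ ⟨a * a, hsq a⟩ := fun a => by
    simp only [q, Equiv.symm_apply_apply]; rfl
  have hq0 : q 0 = 0 := by
    have h := hqa 1
    rw [show ((1 : P) : P ⧸ Z) = 1 from rfl, heV1] at h
    rw [h, ← heZ1]
    exact congrArg eZ (Subtype.ext (one_mul 1))
  have hpolar : ∀ a b : P, QuadraticMap.polar q (eV (a : P ⧸ Z)) (eV (b : P ⧸ Z)) =
      eZ ⟨b * a * b⁻¹ * a⁻¹, hcommZ a b⟩ := by
    intro a b
    rw [QuadraticMap.polar, ← heV, ← QuotientGroup.mk_mul, hqa, hqa, hqa]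
    have h : (⟨a * b * (a * b), hsq (a * b)⟩ : Z) =
        ⟨b * a * b⁻¹ * a⁻¹, hcommZ a b⟩ * (⟨a * a, hsq a⟩ * ⟨b * b, hsq b⟩) := by
      apply Subtype.ext
      change a * b * (a * b) = b * a * b⁻¹ * a⁻¹ * (a * a * (b * b))
      calc a * b * (a * b) = a * (b * a * b⁻¹ * a⁻¹) * a * b * b := by group
        _ = _ := by rw [hzc (hcommZ a b) a]; group
    rw [h, heZ, heZ]
    abel
  have hle : d ≤ 2 * n := by
    refine anisotropic_dim_le q hq0 (fun x x' y => ?_) (fun x hx => ?_)
    · obtain ⟨a, rfl⟩ := hproj x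
      obtain ⟨a', rfl⟩ := hproj x'
      obtain ⟨b, rfl⟩ := hproj y
      rw [hpolar, hpolar, ← heV, ← QuotientGroup.mk_mul, hpolar, ← heZ]
      refine congrArg eZ (Subtype.ext ?_)
      change b * (a * a') * b⁻¹ * (a * a')⁻¹ = b * a * b⁻¹ * a⁻¹ * (b * a' * b⁻¹ * a'⁻¹)
      calc b * (a * a') * b⁻¹ * (a * a')⁻¹
          = b * a * b⁻¹ * (b * a' * b⁻¹ * a'⁻¹) * a⁻¹ := by group
        _ = _ := by rw [mul_assoc _ _ a⁻¹, ← hzc (hcommZ a' b) a⁻¹, ← mul_assoc]
    · obtain ⟨a, rfl⟩ := hproj x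
      rw [hqa, ← heZ1] at hx
      have h1 : a * a = 1 := congrArg Subtype.val (eZ.injective hx)
      rw [(QuotientGroup.eq_one_iff a).mpr (invol_central hP htr h1), heV1]
  have hd0 : d ≠ 0 := by
    rintro rfl
    obtain ⟨x, y, hxy⟩ := hne
    haveI : Subsingleton (P ⧸ Z) := by
      rw [pow_zero] at hd
      exact (Nat.card_eq_one_iff_unique.mp hd).1
    exact hxy (hzc ((QuotientGroup.eq_one_iff y).mp (Subsingleton.elim _ _)) x)
  -- the automorphism acts freely on the non-trivial classes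
  obtain ⟨m, hodd, hm1, hκm, hfree⟩ := hreg
  have hdvd : 2 ^ n - 1 ∣ 2 ^ d - 1 := by
    have hm : 2 ^ n - 1 ∣ m := hn ▸ hcard m hκm
    refine hm.trans ?_
    have hkmap : Subgroup.map (κ : P ≃* P).toMonoidHom Z = Z := by
      ext x
      constructor
      · rintro ⟨y, hy, rfl⟩; exact inv_center κ y hy
      · intro hx
        obtain ⟨y, hy, hxy⟩ := (inv_center κ).exists_eq hx
        exact ⟨y, hy, hxy⟩
    let T : P ⧸ Z ≃* P ⧸ Z := QuotientGroup.congr Z Z κ hkmap
    let S := {c : P ⧸ Z // c ≠ 1}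
    let π : Equiv.Perm S := T.toEquiv.subtypeEquiv fun c => by simp
    have hπ : ∀ (j : ℕ) (a : P) (ha : (a : P ⧸ Z) ≠ 1),
        ((π ^ j) ⟨(a : P ⧸ Z), ha⟩ : S).1 = ((κ ^ j) a : P) := by
      intro j
      induction j with
      | zero => intro a ha; simp
      | succ j ih =>
        intro a ha
        rw [pow_succ', Equiv.Perm.mul_apply, pow_succ', MulAut.mul_apply]
        change T ((π ^ j) ⟨(a : P ⧸ Z), ha⟩ : S).1 = _
        rw [ih]
        rfl
    have hfixed : ∀ (j : ℕ) (s : S), (π ^ j) s = s → m ∣ j := by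
      rintro j ⟨c, hc⟩ h
      induction c using QuotientGroup.induction_on with
      | H a =>
        have h1 : (((κ ^ j) a : P) : P ⧸ Z) = (a : P ⧸ Z) := by
          rw [← hπ j a hc, h]
        have h2 : (κ ^ j) (a * a) = a * a := by
          rw [map_mul, ← hsqmk, ← hsqmk, h1]
        refine hfree j (a * a) (fun h3 => hc ?_) h2
        exact (QuotientGroup.eq_one_iff a).mpr (invol_central hP htr h3)
    have hπm : π ^ m = 1 := Equiv.ext fun ⟨c, hc⟩ => by
      induction c using QuotientGroup.induction_on with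
      | H a => exact Subtype.ext ((hπ m a hc).trans (by rw [hκm]; rfl))
    haveI : Fintype S := Fintype.ofFinite S
    have hcS : Fintype.card S = 2 ^ d - 1 := by
      haveI : Fintype (P ⧸ Z) := Fintype.ofFinite _
      rw [show Fintype.card S = Fintype.card {c : P ⧸ Z // c ≠ 1} from Fintype.card_congr (Equiv.refl _),
        Fintype.card_subtype_compl, Fintype.card_subtype_eq, ← Nat.card_eq_fintype_card, hd]
    rw [← hcS, ← Nat.card_eq_fintype_card]
    -- orbits of the cyclic group generated by `π`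
    haveI : NeZero m := ⟨by omega⟩
    let act : MulAction (zpowers π) S := inferInstance
    have hstab : ∀ s : S, MulAction.stabilizer (zpowers π) s = ⊥ := by
      intro s
      rw [Subgroup.eq_bot_iff_forall]
      rintro ⟨g, hg⟩ hs
      obtain ⟨j, rfl⟩ := mem_powers_iff_mem_zpowers.mpr hg
      apply Subtype.ext
      obtain ⟨l, rfl⟩ := hfixed j s hs
      change π ^ (m * l) = 1
      rw [pow_mul, hπm, one_pow]
    have hord : ∀ s : S, orderOf π = m := fun s => Nat.dvd_antisymm (orderOf_dvd_of_pow_eq_one hπm)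
      (hfixed _ s (by rw [pow_orderOf_eq_one]; rfl))
    have hS : Nonempty S := by
      haveI : Nontrivial (P ⧸ Z) := Finite.one_lt_card_iff_nontrivial.mp (by
        rw [hd]; exact Nat.one_lt_two_pow hd0)
      obtain ⟨c, hc⟩ := exists_ne (1 : P ⧸ Z)
      exact ⟨⟨c, hc⟩⟩
    obtain ⟨s₀⟩ := hS
    have e := MulAction.selfEquivSigmaOrbits (zpowers π) S
    rw [Nat.card_congr e, Nat.card_sigma]
    refine Finset.dvd_sum fun ω _ => ?_
    have h1 := MulAction.index_stabilizer (zpowers π) (Quotient.out ω)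
    rw [hstab, Subgroup.index_bot, Nat.card_zpowers, hord s₀] at h1
    rw [Nat.card_coe_set_eq, ← h1]
  have hnd : n ∣ d := by
    have hg := Nat.pow_sub_one_gcd_pow_sub_one 2 n d
    rw [Nat.gcd_eq_left hdvd] at hg
    by_contra hcon
    have h1 : 2 ^ n = 2 ^ Nat.gcd n d := by
      have a1 := Nat.one_le_two_pow (n := n)
      have a2 := Nat.one_le_two_pow (n := Nat.gcd n d)
      omega
    have h2 := Nat.pow_right_injective le_rfl h1
    exact hcon (h2 ▸ Nat.gcd_dvd_right n d)
  obtain ⟨k, rfl⟩ := hnd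
  have hP' : Nat.card P = 2 ^ (n * k) * 2 ^ n := by
    rw [Subgroup.card_eq_card_quotient_mul_card_subgroup Z, hd, hn]
  have hn0 : n ≠ 0 := fun h => hd0 (by rw [h, zero_mul])
  have hk2 : k ≤ 2 := by
    by_contra h
    have : n * 3 ≤ n * k := Nat.mul_le_mul_left n (by omega)
    omega
  have hk0 : k ≠ 0 := fun h => hd0 (by rw [h, mul_zero])
  rcases (show k = 1 ∨ k = 2 by omega) with rfl | rfl
  · left; rw [hP', hn, mul_one, pow_two]
  · right; rw [hP', hn, ← pow_add, ← pow_mul]; ring_nf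

end Cfsg.Agent.Lib.Suzuki
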