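import Cfsg.Agent.Lib.Suzuki.Field
import Mathlib.FieldTheory.Galois.Basic
import Mathlib.FieldTheory.IntermediateField.Adjoin.Basic
import Mathlib.FieldTheory.Normal.Basic

/-!
The weights `x / σ x` of a generator of a finite field of characteristic two, and the resulting splitting of
invariant coefficient spaces; the algebraic core of Higman's theorem on Suzuki 2-groups.
-/

set_option autoImplicit false

namespace Cfsg.Agent.Lib.Suzuki

open Polynomial

variable {F : Type*} [Field F] [Fintype F] [CharP F 2]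

/-- the weight of `σ` -/
def rho (ζ : F) (σ : F ≃+* F) : F := ζ / σ ζ

theorem rho_conj {ζ : F} (hgen : ∀ x : F, x ≠ 0 → ∃ k : ℕ, ζ ^ k = x) (hζ : ζ ≠ 0) {σ τ φ : F ≃+* F}
    (hσ : σ ≠ 1) (hτ : τ ≠ 1) (h : φ (rho ζ σ) = rho ζ τ) : φ = 1 ∧ σ = τ := by
  classical
  haveI : Fintype (F ≃+* F) := Cfsg.Agent.S1140.autFintype
  set ψ : F ≃+* F := φ * σ with hψ
  have hψx : ∀ x, ψ x = φ (σ x) := fun x => rfl
  have hone : ∀ x : F, (1 : F ≃+* F) x = x := fun x => rfl
  have hne : ∀ (f : F ≃+* F) (x : F), x ≠ 0 → f x ≠ 0 := fun f x hx h => hx (by simpa using h)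
  have h1 : φ ζ * τ ζ = ζ * ψ ζ := by
    rw [rho, rho, map_div₀, div_eq_div_iff (hne φ _ (hne σ _ hζ)) (hne τ _ hζ)] at h
    exact h
  have hall : ∀ x, φ x * τ x = x * ψ x := by
    intro x
    by_cases hx : x = 0
    · simp [hx]
    · obtain ⟨k, rfl⟩ := hgen x hx
      rw [map_pow, map_pow, map_pow, ← mul_pow, ← mul_pow, h1]
  have hpol : ∀ x y, φ x * τ y + τ x * φ y = x * ψ y + ψ x * y := fun x y => by
    have h2 := hall (x + y)
    simp only [map_add] at h2
    linear_combination h2 - hall x - hall y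
  by_cases hψ1 : ψ = 1
  · exfalso
    have hφτ : φ = τ := RingEquiv.ext fun x => by
      have h2 := hpol x 1
      simp only [map_one, mul_one, hψ1, hone] at h2
      rw [CharTwo.add_self_eq_zero] at h2
      exact CharTwo.add_eq_zero.mp h2
    have hφ1 : φ = 1 := RingEquiv.ext fun x => CharTwo.sq_injective (by
      have h2 := hall x
      rw [← hφτ, hψ1] at h2
      simpa [pow_two] using h2)
    apply hσ
    rw [hψ, hφ1, one_mul] at hψ1
    exact hψ1
  · let pairs : List ((F ≃+* F) × (F ≃+* F)) := [(φ, τ), (τ, φ), (1, ψ), (ψ, 1)]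
    have hz : (fun p : (F ≃+* F) × (F ≃+* F) => ((if p = (φ, τ) then (1 : F) else 0) + (if p = (τ, φ) then 1 else 0) +
        (if p = (1, ψ) then 1 else 0) + (if p = (ψ, 1) then 1 else 0))) = 0 := by
      apply bil_coeff_zero
      intro x y
      simp only [add_mul, ite_mul, one_mul, zero_mul, Finset.sum_add_distrib, Finset.sum_ite_eq',
        Finset.mem_univ, if_true, hone]
      linear_combination hpol x y + (x * ψ y + ψ x * y) * CharTwo.two_eq_zero (R := F)
    have h2 := congrFun hz (1, ψ)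
    have hA : ((1 : F ≃+* F), ψ) ≠ (τ, φ) := fun e => hτ (congrArg Prod.fst e).symm
    have hB : ((1 : F ≃+* F), ψ) ≠ (ψ, 1) := fun e => hψ1 (congrArg Prod.fst e).symm
    simp only [if_neg hA, if_neg hB, add_zero, Pi.zero_apply, if_true] at h2
    by_cases hC : ((1 : F ≃+* F), ψ) = (φ, τ)
    · have e1 : φ = 1 := (congrArg Prod.fst hC).symm
      have e2 : ψ = τ := congrArg Prod.snd hC
      rw [hψ, e1, one_mul] at e2
      exact ⟨e1, e2⟩
    · rw [if_neg hC, zero_add] at h2
      exact absurd h2 one_ne_zero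

/-- every element is a polynomial in a weight -/
theorem exists_aeval_rho [Algebra (ZMod 2) F] {ζ : F} (hgen : ∀ x : F, x ≠ 0 → ∃ k : ℕ, ζ ^ k = x)
    (hζ : ζ ≠ 0) {σ : F ≃+* F} (hσ : σ ≠ 1) (x : F) : ∃ p : (ZMod 2)[X], aeval (rho ζ σ) p = x := by
  haveI : Fact (Nat.Prime 2) := ⟨Nat.prime_two⟩
  set K : IntermediateField (ZMod 2) F := IntermediateField.adjoin (ZMod 2) {rho ζ σ} with hK
  have hfix : K.fixingSubgroup = ⊥ := by
    rw [Subgroup.eq_bot_iff_forall]
    intro f hf
    have h := (IntermediateField.mem_fixingSubgroup_iff K f).mp hf (rho ζ σ)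
      (IntermediateField.mem_adjoin_simple_self _ _)
    have h1 := (rho_conj hgen hζ hσ hσ (φ := f.toRingEquiv) h).1
    ext y
    exact congrArg (fun g : F ≃+* F => g y) h1
  have htop : K = ⊤ := by
    have h := IsGalois.fixedField_fixingSubgroup K
    rw [hfix] at h
    rw [← h]
    exact IntermediateField.fixedField_bot
  have hx : x ∈ K := htop ▸ IntermediateField.mem_top
  rw [hK, IntermediateField.mem_adjoin_simple_iff] at hx
  obtain ⟨r, s, rfl⟩ := hx
  obtain ⟨s', hs'⟩ : ∃ p : (ZMod 2)[X], aeval (rho ζ σ) p = (aeval (rho ζ σ) s)⁻¹ := by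
    by_cases h0 : aeval (rho ζ σ) s = 0
    · exact ⟨0, by rw [map_zero, h0, inv_zero]⟩
    · refine ⟨s ^ (Fintype.card F - 2), ?_⟩
      rw [map_pow]
      refine eq_inv_of_mul_eq_one_left ?_
      rw [← pow_succ, show Fintype.card F - 2 + 1 = Fintype.card F - 1 by
        have := Fintype.one_lt_card (α := F); omega]
      exact FiniteField.pow_card_sub_one_eq_one _ h0
  exact ⟨r * s', by rw [map_mul, hs', div_eq_mul_inv]⟩

/-- invariant coefficient spaces split -/
theorem single_mem [DecidableEq (F ≃+* F)] [Fintype (F ≃+* F)] {ζ : F}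
    (hgen : ∀ x : F, x ≠ 0 → ∃ k : ℕ, ζ ^ k = x) (hζ : ζ ≠ 0) (I : AddSubgroup ((F ≃+* F) → F))
    (hI : ∀ w ∈ I, (fun σ => rho ζ σ * w σ) ∈ I) (h1 : ∀ w ∈ I, w 1 = 0)
    {w : (F ≃+* F) → F} (hw : w ∈ I) {σ : F ≃+* F} (hσ : w σ ≠ 0) (a : F) : Pi.single σ a ∈ I := by
  classical
  letI : Algebra (ZMod 2) F := ZMod.algebra F 2
  haveI : Fact (Nat.Prime 2) := ⟨Nat.prime_two⟩
  have hσ1 : σ ≠ 1 := fun h => hσ (h ▸ h1 w hw)
  have hpoly : ∀ (p : (ZMod 2)[X]), ∀ v ∈ I, (fun τ => aeval (rho ζ τ) p * v τ) ∈ I := by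
    intro p
    induction p using Polynomial.induction_on' with
    | add p q hp hq =>
      intro v hv
      have h : (fun τ => aeval (rho ζ τ) (p + q) * v τ) =
          (fun τ => aeval (rho ζ τ) p * v τ) + fun τ => aeval (rho ζ τ) q * v τ := by
        funext τ; simp [map_add, add_mul]
      rw [h]; exact add_mem (hp v hv) (hq v hv)
    | monomial n c =>
      intro v hv
      have hk : ∀ m : ℕ, (fun τ => rho ζ τ ^ m * v τ) ∈ I := by
        intro m
        induction m with
        | zero => simpa using hv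
        | succ m ih => convert hI _ ih using 1; funext τ; ring
      obtain rfl | rfl : c = 0 ∨ c = 1 := by
        fin_cases c
        · exact Or.inl rfl
        · exact Or.inr rfl
      · simp only [map_zero, zero_mul]; exact zero_mem I
      · simpa [aeval_monomial] using hk n
  -- a vector of minimal support
  let supp : ((F ≃+* F) → F) → Finset (F ≃+* F) := fun v => Finset.univ.filter fun τ => v τ ≠ 0
  obtain ⟨v, ⟨hv, hvσ⟩, hmin⟩ := Set.exists_min_image {v : (F ≃+* F) → F | v ∈ I ∧ v σ ≠ 0}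
    (fun v => (supp v).card) (Set.toFinite _) ⟨w, hw, hσ⟩
  have hpure : ∀ τ, τ ≠ σ → v τ = 0 := by
    intro τ hτ
    by_contra hvτ
    have hτ1 : τ ≠ 1 := fun h => hvτ (h ▸ h1 v hv)
    have hint : IsIntegral (ZMod 2) (rho ζ τ) := IsIntegral.of_finite _ _
    have hp : aeval (rho ζ σ) (minpoly (ZMod 2) (rho ζ τ)) ≠ 0 := by
      intro h
      obtain ⟨f, hf⟩ := minpoly.exists_algEquiv_of_root' hint.isAlgebraic h
      exact hτ (rho_conj hgen hζ hτ1 hσ1 (φ := f.toRingEquiv) hf).2
    have hlt : (supp fun μ => aeval (rho ζ μ) (minpoly (ZMod 2) (rho ζ τ)) * v μ).card < (supp v).card := by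
      refine Finset.card_lt_card ((Finset.ssubset_iff_of_subset fun μ hμ => ?_).mpr ⟨τ, ?_, ?_⟩)
      · simp only [supp, Finset.mem_filter, Finset.mem_univ, true_and, ne_eq] at hμ ⊢
        exact fun h => hμ (by rw [h, mul_zero])
      · simpa [supp] using hvτ
      · simp [supp, minpoly.aeval]
    exact absurd (hmin _ ⟨hpoly _ v hv, mul_ne_zero hp hvσ⟩) (not_le.mpr hlt)
  obtain ⟨p, hp⟩ := exists_aeval_rho hgen hζ hσ1 (a / v σ)
  convert hpoly p v hv using 1
  funext τ
  by_cases hτ : τ = σ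
  · subst hτ
    rw [Pi.single_eq_same, hp, div_mul_cancel₀ _ hvσ]
  · rw [Pi.single_eq_of_ne hτ, hpure τ hτ, mul_zero]

/-- the algebraic core: a quadratic map compatible with an invariant family of endomorphisms vanishes -/
theorem quadratic_core [DecidableEq (F ≃+* F)] [Fintype (F ≃+* F)] {V : Type*} [Group V] {ζ : F}
    (hgen : ∀ x : F, x ≠ 0 → ∃ k : ℕ, ζ ^ k = x) (hζ : ζ ≠ 0) (Φ : V → (F ≃+* F) → F)
    (hΦ : ∀ v w, Φ (v * w) = Φ v + Φ w) (hΦζ : ∀ v, ∃ w, Φ w = fun σ => rho ζ σ * Φ v σ)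
    (hΦ1 : ∀ v, Φ v 1 = 0) (s : V → F) (c : V → V → F) (hpol : ∀ v w, s (v * w) = s v + s w + c v w)
    (hcl : ∀ u v w, c (u * v) w = c u w + c v w) (hsymm : ∀ v w, c v w = c w v)
    (hker : ∀ v, Φ v = 0 → s v = 0) (hself : ∀ v, ∑ σ, Φ v σ * σ (s v) = 0)
    (hrel : ∀ v w, c v w + ∑ σ, Φ v σ * σ (c v w) = ∑ σ, Φ w σ * σ (s v)) : ∀ v, s v = 0 := by
  classical
  let f : V →* Multiplicative ((F ≃+* F) → F) := MonoidHom.mk' (fun v => .ofAdd (Φ v)) fun v w => hΦ v w
  have hΦone : Φ 1 = 0 := map_one f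
  have hΦinv : ∀ v, Φ v⁻¹ = -Φ v := fun v => map_inv f v
  let I : AddSubgroup ((F ≃+* F) → F) :=
    { carrier := Set.range Φ
      add_mem' := by rintro _ _ ⟨v, rfl⟩ ⟨w, rfl⟩; exact ⟨v * w, hΦ v w⟩
      zero_mem' := ⟨1, hΦone⟩
      neg_mem' := by rintro _ ⟨v, rfl⟩; exact ⟨v⁻¹, hΦinv v⟩ }
  have hI : ∀ w ∈ I, (fun σ => rho ζ σ * w σ) ∈ I := by rintro _ ⟨v, rfl⟩; exact hΦζ v
  have h1I : ∀ w ∈ I, w 1 = 0 := by rintro _ ⟨v, rfl⟩; exact hΦ1 v
  -- the elements with trivial image
  have hc0 : ∀ v w, Φ v = 0 → c v w = 0 := by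
    intro v w hv
    have h := hrel v w
    rw [hker v hv, hv] at h
    simpa using h
  have hsum1 : ∀ {v : V} {σ : F ≃+* F} {a : F}, Φ v = Pi.single σ a →
      ∀ x : F, ∑ τ, Φ v τ * τ x = a * σ x := by
    intro v σ a hv x
    rw [hv, Finset.sum_eq_single σ (fun τ _ hτ => by rw [Pi.single_eq_of_ne hτ, zero_mul])
      (fun h => absurd (Finset.mem_univ σ) h), Pi.single_eq_same]
  -- pure elements
  have hspure : ∀ {v : V} {σ : F ≃+* F} {a : F}, Φ v = Pi.single σ a → s v = 0 := by
    intro v σ a hv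
    by_cases ha : a = 0
    · exact hker v (by rw [hv, ha, Pi.single_zero])
    · have h := hself v
      rw [hsum1 hv] at h
      simpa [ha] using h
  have hcpure : ∀ {v w : V} {σ τ : F ≃+* F} {a b : F}, Φ v = Pi.single σ a → Φ w = Pi.single τ b →
      c v w = 0 := by
    intro v w σ τ a b hv hw
    by_cases hστ : σ = τ
    · subst hστ
      have h : Φ (v * w) = Pi.single σ (a + b) := by rw [hΦ, hv, hw, ← Pi.single_add]
      have h2 := hpol v w
      rw [hspure h, hspure hv, hspure hw, zero_add, zero_add] at h2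
      exact h2.symm
    by_contra hc
    have hτ1 : τ ≠ 1 := by
      rintro rfl
      have hb : b = 0 := by simpa [hw] using hΦ1 w
      exact hc (by rw [hsymm]; exact hc0 w v (by rw [hw, hb, Pi.single_zero]))
    have ha : a ≠ 0 := by
      rintro rfl
      exact hc (hc0 v w (by rw [hv, Pi.single_zero]))
    have hv0 : Φ v σ ≠ 0 := by rw [hv, Pi.single_eq_same]; exact ha
    choose u hu using fun x => (single_mem hgen hζ I hI h1I ⟨v, rfl⟩ hv0 x : Pi.single σ x ∈ I)
    -- `x ↦ c (u x) w` is additive and injective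
    have hkc : ∀ {v' : V}, Φ v' = Φ v → c v' w = c v w := by
      intro v' hv'
      have h := hcl (v' * v⁻¹) v w
      rwa [inv_mul_cancel_right, hc0 (v' * v⁻¹) w (by rw [hΦ, hΦinv, hv']; exact add_neg_cancel _), zero_add] at h
    have hadd : ∀ x y, c (u (x + y)) w = c (u x) w + c (u y) w := by
      intro x y
      have h := hcl (u (x + y) * (u x * u y)⁻¹) (u x * u y) w
      rw [inv_mul_cancel_right, hc0 (u (x + y) * (u x * u y)⁻¹) w (by
        rw [hΦ, hΦinv, hΦ, hu, hu, hu, ← Pi.single_add]; exact add_neg_cancel _), zero_add, hcl] at h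
      exact h
    have hev : ∀ x, x * σ (c (u x) w) = c (u x) w := by
      intro x
      have h := hrel (u x) w
      rw [hspure (hu x), hsum1 (hu x)] at h
      simp only [map_zero, mul_zero, Finset.sum_const_zero] at h
      exact (CharTwo.add_eq_zero.mp h).symm
    have hev' : ∀ x, b * τ (c (u x) w) = c (u x) w := by
      intro x
      have h := hrel w (u x)
      rw [hspure hw, hsum1 hw, hsymm] at h
      simp only [map_zero, mul_zero, Finset.sum_const_zero] at h
      exact (CharTwo.add_eq_zero.mp h).symm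
    have hne : c (u a) w ≠ 0 := by rw [hkc (by rw [hu, hv])]; exact hc
    let g : F →+ F := AddMonoidHom.mk' (fun x => c (u x) w) hadd
    have hinj : Function.Injective g := (injective_iff_map_eq_zero g).mpr fun x hx => by
      have hx' : c (u x) w = 0 := hx
      have h1 := hev (x + a)
      rw [hadd, hx', zero_add, add_mul, hev a] at h1
      have h2 : x * σ (c (u a) w) = 0 := by linear_combination h1
      rcases mul_eq_zero.mp h2 with h | h
      · exact h
      · exact absurd (by simpa using h) hne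
    obtain ⟨x₁, hx₁⟩ := (Finite.injective_iff_surjective.mp hinj) 1
    have hb : b = 1 := by
      have h := hev' x₁
      rw [show c (u x₁) w = 1 from hx₁, map_one, mul_one] at h
      exact h
    refine hτ1 (RingEquiv.ext fun y => ?_)
    obtain ⟨x, hx⟩ := (Finite.injective_iff_surjective.mp hinj) y
    have h := hev' x
    rw [show c (u x) w = y from hx, hb, one_mul] at h
    exact h
  -- general elements, by induction on the support
  have key : ∀ (S : Finset (F ≃+* F)) (v : V), (∀ σ, σ ∉ S → Φ v σ = 0) →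
      s v = 0 ∧ ∀ (w : V) (τ : F ≃+* F) (b : F), Φ w = Pi.single τ b → c v w = 0 := by
    intro S
    induction S using Finset.induction_on with
    | empty =>
      intro v hv
      have h : Φ v = 0 := funext fun σ => hv σ (Finset.notMem_empty σ)
      exact ⟨hker v h, fun w τ b _ => hc0 v w h⟩
    | insert σ S hσ ih =>
      intro v hv
      by_cases h0 : Φ v σ = 0
      · exact ih v fun μ hμ => if e : μ = σ then e ▸ h0 else hv μ (by simp [e, hμ])
      obtain ⟨u, hu⟩ : Pi.single σ (Φ v σ) ∈ I := single_mem hgen hζ I hI h1I ⟨v, rfl⟩ h0 (Φ v σ)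
      obtain ⟨ih1, ih2⟩ := ih (v * u⁻¹) fun μ hμ => by
        rw [hΦ, hΦinv, Pi.add_apply, Pi.neg_apply, hu]
        by_cases e : μ = σ
        · subst e; rw [Pi.single_eq_same, add_neg_cancel]
        · rw [Pi.single_eq_of_ne e, neg_zero, add_zero]; exact hv μ (by simp [e, hμ])
      constructor
      · have h := hpol (v * u⁻¹) u
        rw [inv_mul_cancel_right, ih1, hspure hu, ih2 u σ _ hu] at h
        simpa using h
      · intro w τ b hw
        have h := hcl (v * u⁻¹) u w
        rwa [inv_mul_cancel_right, ih2 w τ b hw, hcpure hu hw, zero_add] at h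
  exact fun v => (key Finset.univ v fun σ h => absurd (Finset.mem_univ σ) h).1

end Cfsg.Agent.Lib.Suzuki
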