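import Cfsg.Agent.Lib.Suzuki.Center
import Cfsg.Agent.Lib.Suzuki.Weights

/-!
Higman's theorem: in a Suzuki 2-group all squares are central.
-/

set_option autoImplicit false

namespace Cfsg.Agent.Lib.Suzuki

open Subgroup

universe u

variable {P : Type u} [Group P] {κ : MulAut P}

/-- `κ` has odd order `m > 1` and acts without fixed points through every proper power -/
def Reg (κ : MulAut P) : Prop :=
  ∃ m : ℕ, Odd m ∧ 1 < m ∧ κ ^ m = 1 ∧ ∀ (j : ℕ) (x : P), x ≠ 1 → (κ ^ j) x = x → m ∣ j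

theorem exists_invTrans_reg (h : Cfsg.IsSuzukiTwoGroup P) :
    Finite P ∧ IsPGroup 2 P ∧ ∃ κ : MulAut P, InvTrans κ ∧ Reg κ := by
  classical
  obtain ⟨hfin, hP, -, ⟨a, b, hab, ha1, ha2, hb1, hb2⟩, K, hK, hreg⟩ := h
  haveI := hfin
  haveI : Finite (MulAut P) := Finite.of_injective (fun e : MulAut P => (e : P → P)) DFunLike.coe_injective
  obtain ⟨g, hg⟩ := hK.exists_generator
  have htr : InvTrans (g : MulAut P) := fun x y hx1 hx2 hy1 hy2 => by
    obtain ⟨k, hk, -⟩ := hreg x y hx1 hx2 hy1 hy2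
    obtain ⟨j, hj⟩ : ∃ j : ℕ, g ^ j = k := mem_powers_iff_mem_zpowers.mpr (hg k)
    exact ⟨j, by rw [← hk, ← hj]; rfl⟩
  refine ⟨hfin, hP, (g : MulAut P), htr, orderOf g, ?_, ?_, ?_, fun j x hx hj => ?_⟩
  · rw [orderOf_eq_card_of_forall_mem_zpowers hg]
    set Ω := omega hP htr
    have hbij : Function.Bijective (fun k : K => (⟨⟨(k : MulAut P) a, by
        change (k : MulAut P) a * (k : MulAut P) a = 1
        rw [← map_mul, ha2, map_one]⟩, fun e => ha1 (by
        have h1 : (k : MulAut P) a = 1 := congrArg Subtype.val e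
        simpa using h1)⟩ : {x : Ω // x ≠ 1})) := by
      constructor
      · intro k k' e
        obtain ⟨k₀, -, hu⟩ := hreg a ((k : MulAut P) a) ha1 ha2 (fun e1 => ha1 (by simpa using e1))
          (by rw [← map_mul, ha2, map_one])
        exact (hu k rfl).trans (hu k' (congrArg (fun z : {x : Ω // x ≠ 1} => ((z : Ω) : P)) e).symm).symm
      · rintro ⟨⟨x, hx⟩, hx1⟩
        obtain ⟨k, hk, -⟩ := hreg a x ha1 ha2 (fun e => hx1 (Subtype.ext e)) hx
        exact ⟨k, Subtype.ext (Subtype.ext hk)⟩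
    rw [Nat.card_eq_of_bijective _ hbij]
    haveI : Fintype Ω := Fintype.ofFinite _
    rw [Nat.card_eq_fintype_card, Fintype.card_subtype_compl, Fintype.card_subtype_eq]
    have hdvd : 2 ∣ Fintype.card Ω := by
      have h2 := orderOf_eq_prime (p := 2) (x := (⟨a, ha2⟩ : Ω)) (by rw [pow_two]; exact Subtype.ext ha2)
        (fun e => ha1 (congrArg Subtype.val e))
      rw [← h2]
      exact orderOf_dvd_card
    have hpos : 0 < Fintype.card Ω := Fintype.card_pos
    rw [Nat.odd_iff]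
    omega
  · by_contra hle
    have h1 : g = 1 := by
      have := orderOf_pos g
      exact orderOf_eq_one_iff.mp (by omega)
    obtain ⟨j, hj⟩ := htr a b ha1 ha2 hb1 hb2
    rw [h1] at hj
    exact hab (by simpa using hj)
  · rw [← Subgroup.coe_pow, pow_orderOf_eq_one, Subgroup.coe_one]
  · let H : Subgroup P := (((g : MulAut P) ^ j : MulAut P) : P ≃* P).toMonoidHom.eqLocus (MonoidHom.id P)
    obtain ⟨t, ht, ht1, ht2⟩ := exists_invol_mem hP (H := H) (x := x) hj hx
    obtain ⟨k₀, -, hu⟩ := hreg t t ht1 ht2 ht1 ht2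
    have h1 : g ^ j = 1 := (hu (g ^ j) (by
      change ((g ^ j : K) : MulAut P) t = t
      rw [Subgroup.coe_pow]; exact ht)).trans (hu 1 rfl).symm
    exact orderOf_dvd_of_pow_eq_one h1

/-- no non-trivial coset of an invariant subgroup is fixed -/
theorem no_fixed_coset [Finite P] (hP : IsPGroup 2 P) (hreg : Reg κ) {N : Subgroup P} (hN : Inv κ N) {x : P}
    (hx : x ∉ N) (hfix : x⁻¹ * κ x ∈ N) : False := by
  classical
  obtain ⟨m, hodd, h1, hm, hfree⟩ := hreg
  obtain ⟨r, hr, ⟨d, hd⟩⟩ := Nat.exists_prime_and_dvd (show m ≠ 1 by omega)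
  haveI : Fact r.Prime := ⟨hr⟩
  let S : Set P := {y | x⁻¹ * y ∈ N}
  haveI : Fintype S := Fintype.ofFinite _
  have hS : ∀ j : ℕ, ∀ y ∈ S, (κ ^ j) y ∈ S := by
    intro j
    induction j with
    | zero => intro y hy; simpa using hy
    | succ j ih =>
      intro y hy
      rw [pow_succ', MulAut.mul_apply]
      change x⁻¹ * κ ((κ ^ j) y) ∈ N
      have h2 := mul_mem hfix (hN _ (ih y hy))
      rw [map_mul, map_inv] at h2
      simpa [mul_assoc] using h2
  let π : Equiv.Perm S := Equiv.ofBijective (fun y => ⟨(κ ^ d) y, hS d y y.2⟩)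
    (Finite.injective_iff_bijective.mp fun y z e =>
      Subtype.ext ((κ ^ d).injective (congrArg Subtype.val e)))
  have hπ : ∀ (i : ℕ) (y : S), (((π ^ i) y : S) : P) = (κ ^ (d * i)) y := by
    intro i
    induction i with
    | zero => intro y; simp
    | succ i ih =>
      intro y
      rw [pow_succ', Equiv.Perm.mul_apply, Nat.mul_succ, add_comm, pow_add, MulAut.mul_apply, ← ih]
      rfl
  have hπr : π ^ r ^ 1 = 1 := Equiv.ext fun y => Subtype.ext (by
    rw [pow_one, hπ, mul_comm, ← hd, hm]; rfl)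
  obtain ⟨n, hn⟩ := IsPGroup.iff_card.mp (hP.to_subgroup N)
  have hcardS : ¬ r ∣ Fintype.card S := by
    have hc : Fintype.card S = 2 ^ n := by
      rw [← Nat.card_eq_fintype_card, ← hn]
      exact Nat.card_congr ⟨fun y => ⟨x⁻¹ * y, y.2⟩, fun z => ⟨x * z, by
        change x⁻¹ * (x * z) ∈ N; simp⟩, fun y => Subtype.ext (mul_inv_cancel_left x _),
        fun z => Subtype.ext (inv_mul_cancel_left x _)⟩
    rw [hc]
    intro h2
    have := (Nat.prime_dvd_prime_iff_eq hr Nat.prime_two).mp (hr.dvd_of_dvd_pow h2)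
    subst this
    rw [Nat.odd_iff] at hodd
    omega
  obtain ⟨y, hy⟩ := Equiv.Perm.exists_fixed_point_of_prime hcardS hπr
  have hy1 : (y : P) ≠ 1 := fun e => hx (by
    have h2 : x⁻¹ * (y : P) ∈ N := y.2
    rw [e, mul_one] at h2
    simpa using inv_mem h2)
  have hdvd := hfree d y hy1 (by
    have h2 := hπ 1 y
    rw [pow_one, hy, mul_one] at h2
    exact h2.symm)
  have hd0 : 0 < d := Nat.pos_of_ne_zero fun e => by rw [e, mul_zero] at hd; omega
  have hle := Nat.le_of_dvd hd0 hdvd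
  rw [hd] at hle
  have := hr.two_le
  nlinarith

/-- no non-trivial coset of an invariant subgroup is fixed (as a hypothesis on `κ`) -/
def NoFix (κ : MulAut P) : Prop :=
  ∀ N : Subgroup P, Inv κ N → ∀ x : P, x ∉ N → x⁻¹ * κ x ∉ N

/-- coordinates on the involutions -/
theorem exists_coord [Finite P] (hP : IsPGroup 2 P) (htr : InvTrans κ) (hΩ : omega hP htr ≠ ⊥) :
    ∃ (n : ℕ), 1 ≤ n ∧ Nat.card (omega hP htr) = 2 ^ n ∧ ∃ ζ : GaloisField 2 n,
      (∀ x : GaloisField 2 n, x ≠ 0 → ∃ k : ℕ, ζ ^ k = x) ∧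
      ∃ E : P → GaloisField 2 n,
        (∀ x y : P, x * x = 1 → y * y = 1 → E (x * y) = E x + E y) ∧
        (∀ x : P, x * x = 1 → E x = 0 → x = 1) ∧ E 1 = 0 ∧
        (∀ x : P, x * x = 1 → E (κ x) = ζ * E x) ∧ ∀ u, ∃ x : P, x * x = 1 ∧ E x = u := by
  classical
  set Ω := omega hP htr
  haveI : Nontrivial Ω := (nontrivial_iff_ne_bot Ω).mpr hΩ
  haveI : Fact (Nat.Prime 2) := ⟨Nat.prime_two⟩
  obtain ⟨n, hn0, hn⟩ := (hP.to_subgroup Ω).nontrivial_iff_card.mp inferInstance
  let T : Ω ≃* Ω := MulEquiv.ofBijective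
    ((κ.toMonoidHom.comp Ω.subtype).codRestrict Ω fun x => inv_omega hP htr _ x.2)
    (Finite.injective_iff_bijective.mp fun a b hab =>
      Subtype.ext (κ.injective (congrArg Subtype.val hab)))
  have hT : ∀ x : Ω, (T x : P) = κ x := fun x => rfl
  obtain ⟨ζ, hζ, e, he, heT⟩ := exists_field_model (V := Ω) (fun x => Subtype.ext x.2) T hn0 hn
    (fun v w hv hw => by
      obtain ⟨j, hj⟩ := htr v w (fun h => hv (Subtype.ext h)) v.2 (fun h => hw (Subtype.ext h)) w.2
      refine ⟨j, Subtype.ext ?_⟩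
      rw [← hj, pow_apply_eq_iterate]
      clear hj
      induction j with
      | zero => rfl
      | succ j ih => rw [Function.iterate_succ_apply', Function.iterate_succ_apply', hT, ih])
  have he1 : e 1 = 0 := by
    have h := he 1 1
    rwa [mul_one, eq_comm, add_eq_left] at h
  let E : P → GaloisField 2 n := fun x => if h : x * x = 1 then e ⟨x, h⟩ else 0
  have hE : ∀ (x : P) (h : x * x = 1), E x = e ⟨x, h⟩ := fun x h => dif_pos h
  refine ⟨n, hn0, hn, ζ, hζ, E, fun x y hx hy => ?_, fun x hx h => ?_, ?_, fun x hx => ?_, fun u => ?_⟩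
  · rw [hE x hx, hE y hy, ← he,
      hE (x * y) (mul_mem (show x ∈ Ω from hx) (show y ∈ Ω from hy))]
    rfl
  · rw [hE x hx, ← he1] at h
    exact congrArg Subtype.val (e.injective h)
  · rw [hE 1 (one_mul 1), ← he1]
    rfl
  · rw [hE x hx, hE (κ x) (inv_omega hP htr x hx), ← heT]
    rfl
  · exact ⟨e.symm u, (e.symm u).2, by rw [hE _ (e.symm u).2]; exact e.apply_symm_apply u⟩

/-- the endomorphisms induced by `P` on the involutions through a homocyclic abelian subgroup -/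
theorem exists_induced [Finite P] (hP : IsPGroup 2 P) (htr : InvTrans κ) {A : Subgroup P} [hAn : A.Normal]
    (hinv : Inv κ A) (hab : ∀ a ∈ A, ∀ b ∈ A, a * b = b * a) {k : ℕ}
    (hspec : ∀ a ∈ A, a ^ 2 ^ (k + 2) = 1) (hexists : ∃ a ∈ A, a ^ 2 ^ (k + 1) ≠ 1)
    {F : Type} [Field F] [CharP F 2] {ζ : F} (hζ : ζ ≠ 0) (E : P → F)
    (hEmul : ∀ x y : P, x * x = 1 → y * y = 1 → E (x * y) = E x + E y)
    (hE1 : E 1 = 0) (hEκ : ∀ x : P, x * x = 1 → E (κ x) = ζ * E x) (hEs : ∀ u, ∃ x : P, x * x = 1 ∧ E x = u) :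
    (∀ y : P, ∀ b ∈ A, (y * b * y⁻¹ * b⁻¹) ^ 2 ^ (k + 1) = 1) ∧
    (∀ b ∈ A, b ^ 2 ^ (k + 1) * b ^ 2 ^ (k + 1) = 1) ∧
    ∃ G : P → F →+ F, (∀ y v, G (y * v) = G y + G v) ∧
      (∀ y : P, ∀ b ∈ A, G y (E (b ^ 2 ^ (k + 1))) = E ((y * b * y⁻¹ * b⁻¹) ^ 2 ^ k)) ∧
      (∀ y u, G (κ y) (ζ * u) = ζ * G y u) := by
  classical
  obtain ⟨a₀, ha₀, ha₀ne⟩ := hexists
  obtain ⟨hroot, hker⟩ := exists_root_of_pow_eq_one hP htr hinv hab hspec ha₀ ha₀ne
  set δ : P → P → P := fun y b => y * b * y⁻¹ * b⁻¹ with hδ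
  have hδA : ∀ y, ∀ b ∈ A, δ y b ∈ A := fun y b hb => mul_mem (hAn.conj_mem b hb y) (inv_mem hb)
  have hth2 : ∀ b ∈ A, b ^ 2 ^ (k + 1) * b ^ 2 ^ (k + 1) = 1 := fun b hb => by
    rw [← pow_add, ← two_mul, ← pow_succ']
    exact hspec b hb
  have hδmul : ∀ y, ∀ a ∈ A, ∀ b ∈ A, δ y (a * b) = δ y a * δ y b := by
    intro y a ha b hb
    calc δ y (a * b) = (y * a * y⁻¹) * (δ y b * a⁻¹) := by simp only [hδ]; group
      _ = (y * a * y⁻¹) * (a⁻¹ * δ y b) := by rw [hab _ (hδA y b hb) _ (inv_mem ha)]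
      _ = δ y a * δ y b := by simp only [hδ]; group
  have hδpow : ∀ y, ∀ b ∈ A, ∀ j : ℕ, δ y (b ^ j) = δ y b ^ j := by
    intro y b hb j
    induction j with
    | zero => simp [hδ]
    | succ j ih => rw [pow_succ, pow_succ, hδmul y _ (pow_mem hb j) b hb, ih]
  have hδθ : ∀ y, ∀ b ∈ A, δ y b ^ 2 ^ (k + 1) = 1 := by
    intro y b hb
    rw [← hδpow y b hb]
    have h := mem_center_iff.mp (invol_central hP htr (hth2 b hb)) y
    simp only [hδ]
    rw [h]; group
  have hg2 : ∀ y, ∀ b ∈ A, δ y b ^ 2 ^ k * δ y b ^ 2 ^ k = 1 := fun y b hb => by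
    rw [← pow_add, ← two_mul, ← pow_succ']
    exact hδθ y b hb
  choose R hRA hR using fun u => hroot (hEs u).choose (hEs u).choose_spec.1
  have hER : ∀ u, E ((R u) ^ 2 ^ (k + 1)) = u := fun u => by rw [hR]; exact (hEs u).choose_spec.2
  have hwell : ∀ y, ∀ b ∈ A, ∀ b' ∈ A, b ^ 2 ^ (k + 1) = b' ^ 2 ^ (k + 1) →
      δ y b ^ 2 ^ k = δ y b' ^ 2 ^ k := by
    intro y b hb b' hb' h
    obtain ⟨d, hd, hd2⟩ := hker (k + 1) le_rfl (b'⁻¹ * b) (mul_mem (inv_mem hb') hb) (by
      rw [Commute.mul_pow (hab _ (inv_mem hb') _ hb), inv_pow, h, inv_mul_cancel])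
    rw [show b = b' * (d * d) by rw [hd2, mul_inv_cancel_left], hδmul y _ hb' _ (mul_mem hd hd),
      hδmul y d hd d hd,
      Commute.mul_pow (hab _ (hδA y b' hb') _ (mul_mem (hδA y d hd) (hδA y d hd))), ← pow_two, ← pow_mul,
      ← pow_succ', hδθ y d hd, mul_one]
  let g : P → F → F := fun y u => E (δ y (R u) ^ 2 ^ k)
  have hg : ∀ y, ∀ b ∈ A, g y (E (b ^ 2 ^ (k + 1))) = E (δ y b ^ 2 ^ k) := by
    intro y b hb
    refine congrArg E (hwell y _ (hRA _) b hb ?_)
    have h1 := hEmul _ _ (hth2 _ (hRA (E (b ^ 2 ^ (k + 1))))) (hth2 b hb)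
    rw [hER, CharTwo.add_self_eq_zero] at h1
    -- both sides are involutive with the same coordinate
    by_contra hne
    set w := (R (E (b ^ 2 ^ (k + 1)))) ^ 2 ^ (k + 1) * b ^ 2 ^ (k + 1) with hw
    have hw2 : w * w = 1 := mul_mem (show _ ∈ omega hP htr from hth2 _ (hRA _))
      (show _ ∈ omega hP htr from hth2 b hb)
    have hwne : w ≠ 1 := fun e => hne (by
      rw [hw, mul_eq_one_iff_eq_inv, inv_eq_of_mul_eq_one_right (hth2 b hb)] at e
      exact e)
    -- every coordinate vanishes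
    have hall : ∀ x : P, x * x = 1 → E x = 0 := by
      intro x hx
      by_cases hx1 : x = 1
      · rw [hx1, hE1]
      obtain ⟨j, rfl⟩ := htr w x hwne hw2 hx1 hx
      clear hx hx1
      induction j with
      | zero => simpa using h1
      | succ j ih =>
        rw [pow_succ', MulAut.mul_apply, hEκ _ (by rw [← map_mul, hw2, map_one]), ih, mul_zero]
    obtain ⟨x, hx, hx1⟩ := hEs 1
    exact zero_ne_one ((hall x hx).symm.trans hx1)
  have hgadd : ∀ y u v, g y (u + v) = g y u + g y v := by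
    intro y u v
    have h : g y (u + v) = g y (E ((R u * R v) ^ 2 ^ (k + 1))) := by
      rw [Commute.mul_pow (hab _ (hRA u) _ (hRA v)), hEmul _ _ (hth2 _ (hRA u)) (hth2 _ (hRA v)), hER, hER]
    rw [h, hg y _ (mul_mem (hRA u) (hRA v)), hδmul y _ (hRA u) _ (hRA v),
      Commute.mul_pow (hab _ (hδA y _ (hRA u)) _ (hδA y _ (hRA v))),
      hEmul _ _ (hg2 y _ (hRA u)) (hg2 y _ (hRA v))]
  refine ⟨hδθ, hth2, fun y => AddMonoidHom.mk' (g y) (hgadd y), fun y v => ?_, hg, fun y u => ?_⟩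
  · ext u
    change g (y * v) u = g y u + g v u
    obtain ⟨c, hc, hc2⟩ := hker (k + 1) le_rfl _ (hδA v _ (hRA u)) (hδθ v _ (hRA u))
    have h1 : δ (y * v) (R u) = δ y (δ v (R u)) * δ v (R u) * δ y (R u) := by
      calc δ (y * v) (R u) = (y * δ v (R u) * y⁻¹) * δ y (R u) := by simp only [hδ]; group
        _ = _ := by simp only [hδ]; group
    have h2 : δ y (δ v (R u)) ^ 2 ^ k = 1 := by
      rw [← hc2, hδmul y c hc c hc, ← pow_two, ← pow_mul, ← pow_succ']
      exact hδθ y c hc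
    change E (δ (y * v) (R u) ^ 2 ^ k) = _
    rw [h1, Commute.mul_pow (hab _ (mul_mem (hδA y _ (hδA v _ (hRA u))) (hδA v _ (hRA u))) _
        (hδA y _ (hRA u))),
      Commute.mul_pow (hab _ (hδA y _ (hδA v _ (hRA u))) _ (hδA v _ (hRA u))), h2, one_mul,
      hEmul _ _ (hg2 v _ (hRA u)) (hg2 y _ (hRA u)), add_comm]
  · change g (κ y) (ζ * u) = ζ * g y u
    have h : ζ * u = E ((κ (R u)) ^ 2 ^ (k + 1)) := by
      rw [← map_pow, hEκ _ (hth2 _ (hRA u)), hER]
    rw [h, hg _ _ (hinv _ (hRA u)), ← hEκ _ (hg2 y _ (hRA u)), map_pow]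
    simp only [hδ, map_mul, map_inv]

/-- with exponent at least eight the layer acts trivially modulo fourth powers -/
theorem induced_layer_eq_zero_of_noFix [Finite P] (hnf : NoFix κ)
    {A : Subgroup P} [A.Normal] (hinv : Inv κ A) {F : Type} [Field F] [Finite F] [CharP F 2] {ζ : F}
    (hgen : ∀ x : F, x ≠ 0 → ∃ k : ℕ, ζ ^ k = x) (hζ : ζ ≠ 0) (G : P → F →+ F)
    (hG : ∀ y v, G (y * v) = G y + G v) (hGκ : ∀ y u, G (κ y) (ζ * u) = ζ * G y u)
    (hid : ∀ y ∈ layer A, ∀ u, G y (G y u) = G y u) : ∀ y ∈ layer A, G y = 0 := by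
  classical
  haveI : Fintype P := Fintype.ofFinite P
  have hcomm : ∀ y ∈ layer A, ∀ v ∈ layer A, ∀ u, G y (G v u) = G v (G y u) := by
    intro y hy v hv u
    have h := hid _ (mul_mem hy hv) u
    simp only [hG, AddMonoidHom.add_apply, map_add] at h
    rw [hid y hy, hid v hv] at h
    apply CharTwo.add_eq_zero.mp
    linear_combination h
  -- a common eigenvector
  have hex : ∀ S : Finset P, ∃ u : F, u ≠ 0 ∧ ∀ y ∈ S, y ∈ layer A → G y u = 0 ∨ G y u = u := by
    intro S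
    induction S using Finset.induction_on with
    | empty => exact ⟨1, one_ne_zero, by simp⟩
    | insert v S hv ih =>
      obtain ⟨u, hu, hS⟩ := ih
      by_cases hvA : v ∈ layer A
      · by_cases h0 : G v u = 0
        · refine ⟨u, hu, fun y hy hyA => ?_⟩
          rcases Finset.mem_insert.mp hy with rfl | hy
          · exact Or.inl h0
          · exact hS y hy hyA
        · refine ⟨G v u, h0, fun y hy hyA => ?_⟩
          rcases Finset.mem_insert.mp hy with rfl | hy
          · exact Or.inr (hid y hyA u)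
          · rw [hcomm y hyA v hvA]
            rcases hS y hy hyA with h | h
            · left; rw [h, map_zero]
            · right; rw [h]
      · refine ⟨u, hu, fun y hy hyA => ?_⟩
        rcases Finset.mem_insert.mp hy with rfl | hy
        · exact absurd hyA hvA
        · exact hS y hy hyA
  obtain ⟨u₀, hu₀, hu₀e⟩ := hex Finset.univ
  have hpow : ∀ (j : ℕ) (y : P) (u : F), G ((κ ^ j) y) (ζ ^ j * u) = ζ ^ j * G y u := by
    intro j
    induction j with
    | zero => intro y u; simp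
    | succ j ih => intro y u; rw [pow_succ' κ, MulAut.mul_apply, pow_succ', mul_assoc, hGκ, ih, mul_assoc]
  have hall : ∀ y ∈ layer A, ∀ u, G y u = 0 ∨ G y u = u := by
    intro y hy u
    by_cases hu : u = 0
    · left; rw [hu, map_zero]
    obtain ⟨j, hj⟩ := hgen (u / u₀) (div_ne_zero hu hu₀)
    have hju : u = ζ ^ j * u₀ := by rw [hj, div_mul_cancel₀ _ hu₀]
    have hmem : ∀ (i : ℕ) (z : P), z ∈ layer A → ∃ z' ∈ layer A, (κ ^ i) z' = z := by
      intro i
      induction i with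
      | zero => intro z hz; exact ⟨z, hz, by simp⟩
      | succ i ih =>
        intro z hz
        obtain ⟨z₁, hz₁, rfl⟩ := (inv_layer hinv).exists_eq hz
        obtain ⟨z₂, hz₂, rfl⟩ := ih z₁ hz₁
        exact ⟨z₂, hz₂, by rw [pow_succ', MulAut.mul_apply]⟩
    obtain ⟨y', hy', rfl⟩ := hmem j y hy
    rw [hju, hpow]
    rcases hu₀e y' (Finset.mem_univ _) hy' with h | h
    · left; rw [h, mul_zero]
    · right; rw [h]
  have hdich : ∀ y ∈ layer A, (∀ u, G y u = 0) ∨ ∀ u, G y u = u := by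
    intro y hy
    by_contra hcon
    push Not at hcon
    obtain ⟨⟨u, hu⟩, ⟨w, hw⟩⟩ := hcon
    have hu' := (hall y hy u).resolve_left hu
    have hw' := (hall y hy w).resolve_right hw
    rcases hall y hy (u + w) with h | h <;> rw [map_add, hu', hw', add_zero] at h
    · exact hu (hu'.trans h)
    · exact hw (hw'.trans (add_eq_left.mp h.symm).symm)
  have hG1 : G 1 = 0 := by simpa using hG 1 1
  let N : Subgroup P :=
    { carrier := {y | y ∈ layer A ∧ G y = 0}
      mul_mem' := fun {a b} ha hb => ⟨mul_mem ha.1 hb.1, by rw [hG, ha.2, hb.2, add_zero]⟩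
      one_mem' := ⟨one_mem _, hG1⟩
      inv_mem' := fun {a} ha => ⟨inv_mem ha.1, by
        have h := hG a a⁻¹
        rwa [mul_inv_cancel, hG1, ha.2, zero_add, eq_comm] at h⟩ }
  have hN : Inv κ N := fun y hy => ⟨inv_layer hinv y hy.1, by
    ext u
    obtain ⟨u', rfl⟩ : ∃ u', ζ * u' = u := ⟨u / ζ, mul_div_cancel₀ u hζ⟩
    rw [hGκ, hy.2]; simp⟩
  intro y hy
  by_contra hne
  refine hnf N hN y (fun h => hne h.2) ⟨mul_mem (inv_mem hy) (inv_layer hinv y hy), ?_⟩
  have hy1 : ∀ u, G y u = u := (hdich y hy).resolve_left fun h => hne (AddMonoidHom.ext h)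
  have hy2 : ∀ u, G y⁻¹ u = u := by
    intro u
    have h := congrArg (fun f : F →+ F => f u) (hG y y⁻¹)
    rw [mul_inv_cancel, hG1] at h
    simp only [AddMonoidHom.zero_apply, AddMonoidHom.add_apply, hy1] at h
    exact (CharTwo.add_eq_zero.mp h.symm).symm
  have hy3 : ∀ u, G (κ y) u = u := by
    intro u
    obtain ⟨u', rfl⟩ : ∃ u', ζ * u' = u := ⟨u / ζ, mul_div_cancel₀ u hζ⟩
    rw [hGκ, hy1]
  ext u
  rw [hG, AddMonoidHom.add_apply, hy2, hy3]
  exact CharTwo.add_self_eq_zero u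

instance layer_normal (A : Subgroup P) [A.Normal] : (layer A).Normal :=
  ⟨fun y hy x => by
    rw [mem_layer] at hy
    have h1 : x * y * x⁻¹ * y⁻¹ ∈ A := by
      have := inv_mem (hy.1 x)
      simpa [mul_inv_rev, mul_assoc] using this
    have hle : A ≤ layer A := fun a ha => mem_layer.mpr ⟨fun z => by
      have h := mul_mem ha (‹A.Normal›.conj_mem a⁻¹ (inv_mem ha) z)
      simpa [mul_assoc] using h, mul_mem ha ha⟩
    simpa using mul_mem (hle h1) (mem_layer.mpr hy)⟩

/-- **Higman**: all squares are central -/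
theorem sq_mem_center_of_noFix [Finite P] (hP : IsPGroup 2 P) (htr : InvTrans κ) (hnf : NoFix κ)
    (hne : ∃ x y : P, x * y ≠ y * x) : ∀ x : P, x * x ∈ center P := by
  classical
  haveI : Fact (Nat.Prime 2) := ⟨Nat.prime_two⟩
  obtain ⟨A, hAn, hinv, hab, hZA, hmax⟩ := exists_maximal_abelian κ
  haveI := hAn
  have hAtop : A ≠ ⊤ := fun h => by
    obtain ⟨x, y, hxy⟩ := hne
    exact hxy (hab x (h ▸ mem_top x) y (h ▸ mem_top y))
  have hzc : ∀ {a : P}, a ∈ center P → ∀ x : P, x * a = a * x := fun {a} ha x => mem_center_iff.mp ha x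
  by_cases helem : ∀ a ∈ A, a * a = 1
  · -- the centre is the maximal abelian subgroup
    have hAZ : A ≤ center P := fun a ha => invol_central hP htr (helem a ha)
    have hAeq : A = center P := le_antisymm hAZ hZA
    set U := layer (center P) with hU
    haveI : U.Normal := layer_normal (center P)
    have hUinv : Inv κ U := inv_layer (inv_center κ)
    have hmem : ∀ u : P, u ∈ U ↔ (∀ x : P, u * x * u⁻¹ * x⁻¹ ∈ center P) ∧ u * u ∈ center P :=
      fun u => mem_layer
    have hZU : center P ≤ U := fun z hz => (hmem z).mpr ⟨fun x => by rw [← hzc hz x]; simp, mul_mem hz hz⟩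
    -- the centre of `U` is the centre of `P`
    have hR : ∀ u ∈ U, (∀ v ∈ U, u * v = v * u) → u ∈ center P := by
      intro u hu hcomm
      let R : Subgroup P := U ⊓ centralizer (U : Set P)
      haveI : R.Normal := by
        haveI : (centralizer (U : Set P)).Normal := inferInstance
        infer_instance
      have hRinv : Inv κ R := fun r hr => ⟨hUinv r hr.1, mem_centralizer_iff.mpr fun v hv => by
        obtain ⟨v', hv', rfl⟩ := hUinv.exists_eq hv
        rw [← map_mul, ← map_mul, mem_centralizer_iff.mp hr.2 v' hv']⟩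
      have h := hmax R inferInstance hRinv (fun a ha b hb => mem_centralizer_iff.mp hb.2 a ha.1)
        (hAeq ▸ fun z hz => ⟨hZU hz, mem_centralizer_iff.mpr fun v _ => hzc hz v⟩)
      have hu' : u ∈ R := ⟨hu, mem_centralizer_iff.mpr fun v hv => (hcomm v hv).symm⟩
      rw [h] at hu'
      exact hAZ hu'
    suffices hall : ∀ y : P, y ∈ U from fun x => ((hmem x).mp (hall x)).2
    by_contra hcon
    push Not at hcon
    obtain ⟨y₀, hy₀⟩ := hcon
    obtain ⟨y, -, hy, hyU⟩ :=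
      exists_mem_layer hP (A := U) (N := ⊤) le_top (fun h => hy₀ (h ▸ mem_top y₀))
    rw [mem_layer] at hy
    apply hyU
    have hyv : ∀ v ∈ U, ∃ z ∈ center P, (y * v) * (y * v) = z * (y * y) ∧ y * v * y⁻¹ * v⁻¹ ∈ center P := by
      intro v hv
      obtain ⟨hv1, hv2⟩ := (hmem v).mp hv
      have hε : v * y * v⁻¹ * y⁻¹ ∈ center P := hv1 y
      refine ⟨(v * y * v⁻¹ * y⁻¹) * (v * v), mul_mem hε hv2, ?_, ?_⟩
      · calc y * v * (y * v) = y * (v * y * v⁻¹ * y⁻¹) * (y * (v * v)) := by group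
          _ = (v * y * v⁻¹ * y⁻¹) * ((y * y) * (v * v)) := by rw [hzc hε y]; group
          _ = (v * y * v⁻¹ * y⁻¹) * ((v * v) * (y * y)) := by rw [hzc hv2 (y * y)]
          _ = _ := (mul_assoc _ _ _).symm
      · have := inv_mem hε
        simpa [mul_inv_rev, mul_assoc] using this
    -- `y * y` is central
    have hy2 : y * y ∈ center P := by
      refine hR _ hy.2 fun v hv => ?_
      obtain ⟨z, hz, hsq, -⟩ := hyv v hv
      have h := (Commute.refl (y * v)).mul_right (Commute.refl (y * v))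
      rw [hsq] at h
      have h' : Commute (y * v) (y * y) := by
        have hz' : Commute (y * v) z⁻¹ := hzc (inv_mem hz) (y * v)
        simpa using hz'.mul_right h
      have hyy : Commute y⁻¹ (y * y) := ((Commute.refl y).mul_right (Commute.refl y)).inv_left
      simpa using (hyy.mul_left h').symm.eq
    -- commutators with `y` are central
    refine (hmem y).mpr ⟨fun x => ?_, hy2⟩
    set c := y * x * y⁻¹ * x⁻¹ with hc
    have hcU : c ∈ U := hy.1 x
    refine hR c hcU fun v hv => ?_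
    obtain ⟨hv1, hv2⟩ := (hmem v).mp hv
    obtain ⟨z, hz, hsq, hyvc⟩ := hyv v hv
    -- `c' := x y x⁻¹ y⁻¹` is `c⁻¹`; conjugate both squares by `x`
    set ε := y * c⁻¹ * y⁻¹ * c with hε
    have hεZ : ε ∈ center P := by
      have h := ((hmem c⁻¹).mp (inv_mem hcU)).1 y
      have h2 := inv_mem h
      simpa [hε, mul_inv_rev, mul_assoc] using h2
    set η := v * c⁻¹ * v⁻¹ * c with hη
    have hηZ : η ∈ center P := by
      have h := ((hmem v).mp hv).1 c⁻¹
      simpa [hη, mul_assoc] using h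
    set μ := v⁻¹ * x * v * x⁻¹ with hμ
    have hμZ : μ ∈ center P := by
      have h := ((hmem v⁻¹).mp (inv_mem hv)).1 x
      simpa [hμ, mul_assoc] using h
    have h1 : x * y * x⁻¹ = c⁻¹ * y := by rw [hc]; group
    have h2 : x * (y * v) * x⁻¹ = c⁻¹ * (y * v) * μ := by rw [hc, hμ]; group
    have hμ2 : μ * μ = 1 := center_mul_self hP htr hne μ hμZ
    -- squares of both
    have e1 : x * (y * y) * x⁻¹ = ε * (c⁻¹ * c⁻¹) * (y * y) := by
      calc x * (y * y) * x⁻¹ = (x * y * x⁻¹) * (x * y * x⁻¹) := by group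
        _ = c⁻¹ * (y * c⁻¹ * y⁻¹ * c) * (c⁻¹ * (y * y)) := by rw [h1]; group
        _ = ε * (c⁻¹ * c⁻¹) * (y * y) := by rw [← hε, hzc hεZ c⁻¹]; group
    have hεη : (y * v) * c⁻¹ * (y * v)⁻¹ * c = η * ε := by
      calc (y * v) * c⁻¹ * (y * v)⁻¹ * c = y * (v * c⁻¹ * v⁻¹ * c) * (c⁻¹ * y⁻¹ * c) := by group
        _ = η * (y * c⁻¹ * y⁻¹ * c) := by rw [← hη, hzc hηZ y]; group
    have e2 : x * ((y * v) * (y * v)) * x⁻¹ = η * ε * (c⁻¹ * c⁻¹) * (z * (y * y)) := by
      calc x * ((y * v) * (y * v)) * x⁻¹ = (x * (y * v) * x⁻¹) * (x * (y * v) * x⁻¹) := by group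
        _ = c⁻¹ * (y * v) * (μ * (c⁻¹ * (y * v) * μ)) := by rw [h2, mul_assoc]
        _ = c⁻¹ * (y * v) * (c⁻¹ * (y * v)) * (μ * μ) := by
          rw [← hzc hμZ (c⁻¹ * (y * v) * μ)]; simp only [mul_assoc]
        _ = c⁻¹ * ((y * v) * c⁻¹ * (y * v)⁻¹ * c) * c⁻¹ * ((y * v) * (y * v)) := by
          rw [hμ2, mul_one]; group
        _ = _ := by
          rw [hεη, hzc (mul_mem hηZ hεZ) c⁻¹, hsq]
          simp only [mul_assoc]
    have e3 : x * ((y * v) * (y * v)) * x⁻¹ = z * (x * (y * y) * x⁻¹) := by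
      rw [hsq, ← mul_assoc, hzc hz x]; group
    rw [e2, e1] at e3
    have h4 : η = 1 := by
      have hzq : z * (ε * (c⁻¹ * c⁻¹) * (y * y)) = ε * (c⁻¹ * c⁻¹) * (z * (y * y)) := by
        rw [← mul_assoc z, ← mul_assoc (ε * (c⁻¹ * c⁻¹)) z, hzc hz (ε * (c⁻¹ * c⁻¹))]
      have h5 : η * (z * (ε * (c⁻¹ * c⁻¹) * (y * y))) = z * (ε * (c⁻¹ * c⁻¹) * (y * y)) := by
        calc η * (z * (ε * (c⁻¹ * c⁻¹) * (y * y))) = η * (ε * (c⁻¹ * c⁻¹) * (z * (y * y))) := by rw [hzq]
          _ = η * ε * (c⁻¹ * c⁻¹) * (z * (y * y)) := by simp only [mul_assoc]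
          _ = _ := e3
      exact mul_eq_right.mp h5
    rw [hη, mul_eq_one_iff_eq_inv, mul_inv_eq_iff_eq_mul] at h4
    have h6 := congrArg (fun p => c * p * c) h4
    simpa [mul_assoc] using h6
  -- exponent at least four
  push Not at helem
  obtain ⟨a₁, ha₁, ha₁2⟩ := helem
  have hex : ∃ m, ∀ a ∈ A, a ^ 2 ^ m = 1 := by
    obtain ⟨m, hm⟩ := IsPGroup.iff_card.mp hP
    exact ⟨m, fun a _ => by rw [← hm]; exact pow_card_eq_one'⟩
  have hspec := Nat.find_spec hex
  obtain ⟨k, hk⟩ : ∃ k, Nat.find hex = k + 2 := by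
    refine ⟨Nat.find hex - 2, (Nat.sub_add_cancel ?_).symm⟩
    by_contra hlt
    apply ha₁2
    have h1 : a₁ ^ 2 ^ 1 = 1 := orderOf_dvd_iff_pow_eq_one.mp
      ((orderOf_dvd_iff_pow_eq_one.mpr (hspec a₁ ha₁)).trans (pow_dvd_pow 2 (by omega)))
    simpa [pow_two] using h1
  rw [hk] at hspec
  have hexists : ∃ a ∈ A, a ^ 2 ^ (k + 1) ≠ 1 := by
    have h := Nat.find_min hex (m := k + 1) (by omega)
    push Not at h
    exact h
  have hCA := centralizer_maximal hP htr hAn hinv hab hZA hmax hspec hexists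
  have hΩ : omega hP htr ≠ ⊥ := fun h => by
    obtain ⟨a, ha, ha'⟩ := hexists
    have h2 : a ^ 2 ^ (k + 1) ∈ omega hP htr := by
      change _ * _ = 1
      rw [← pow_add, ← two_mul, ← pow_succ']
      exact hspec a ha
    rw [h, mem_bot] at h2
    exact ha' h2
  obtain ⟨n, -, -, ζ, hgen, E, hEmul, hEinj, hE1, hEκ, hEs⟩ := exists_coord hP htr hΩ
  haveI : Fintype (GaloisField 2 n) := Fintype.ofFinite _
  have hζ : ζ ≠ 0 := by
    intro h
    obtain ⟨x, hx, hx1⟩ := hEs 1
    have h2 := hEκ x hx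
    rw [h, zero_mul] at h2
    have h3 := hEinj _ (by rw [← map_mul, hx, map_one]) h2
    rw [show x = 1 from (by simpa using h3), hE1] at hx1
    exact zero_ne_one hx1
  obtain ⟨hδθ, hth2, G, hG, hGE, hGκ⟩ :=
    exists_induced hP htr hinv hab hspec hexists hζ E hEmul hE1 hEκ hEs
  obtain ⟨hroot, hker⟩ := exists_root_of_pow_eq_one hP htr hinv hab hspec hexists.choose_spec.1
    hexists.choose_spec.2
  have hnorm : ∀ x : P, ∀ a ∈ A, x * a * x⁻¹ ∈ A := fun x a ha => hAn.conj_mem a ha x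
  rcases Nat.eq_zero_or_pos k with hk0 | hk1
  swap
  · -- exponent at least eight is impossible
    exfalso
    have hG0 := induced_layer_eq_zero_of_noFix hnf hinv hgen hζ G hG hGκ (fun y hy u => by
      obtain ⟨w, hw, hwu⟩ := hEs u
      obtain ⟨b, hb, rfl⟩ := hroot w hw
      set d := y * b * y⁻¹ * b⁻¹ with hd
      have hdA : d ∈ A := mul_mem (hnorm y b hb) (inv_mem hb)
      obtain ⟨c, hc, hc2⟩ := hker (k + 1) le_rfl d hdA (hδθ y b hb)
      rw [← hwu, hGE y b hb, ← hd]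
      have hdc : d ^ 2 ^ k = c ^ 2 ^ (k + 1) := by rw [← hc2, ← pow_two, ← pow_mul, ← pow_succ']
      rw [hdc, hGE y c hc]
      set e := y * c * y⁻¹ * c⁻¹ with he
      have heA : e ∈ A := mul_mem (hnorm y c hc) (inv_mem hc)
      -- `y` inverts `d`
      have hyy : y * d * y⁻¹ = d⁻¹ := by
        have h := hab _ (mem_layer.mp hy).2 b hb
        calc y * d * y⁻¹ = (y * y * b) * (y * y)⁻¹ * (y * b⁻¹ * y⁻¹) := by rw [hd]; group
          _ = (b * (y * y)) * (y * y)⁻¹ * (y * b⁻¹ * y⁻¹) := by rw [h]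
          _ = d⁻¹ := by rw [hd]; group
      have hec : e * (c * c) * (e * (c * c)) = 1 := by
        have h1 : e * e * (c * c) = d⁻¹ := by
          rw [← hyy, ← hc2]
          calc e * e * (c * c) = e * (e * c) * c := by group
            _ = e * (c * e) * c := by rw [hab e heA c hc]
            _ = y * (c * c) * y⁻¹ := by rw [he]; group
        calc e * (c * c) * (e * (c * c)) = e * ((c * c) * e) * (c * c) := by group
          _ = e * e * (c * c) * (c * c) := by rw [hab (c * c) (mul_mem hc hc) e heA]; group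
          _ = 1 := by rw [h1, hc2, inv_mul_cancel]
      have h2 : (e * (c * c)) ^ 2 ^ k = 1 := by
        obtain ⟨i, rfl⟩ := Nat.exists_eq_succ_of_ne_zero (by omega : k ≠ 0)
        rw [pow_succ', pow_mul, pow_two, hec, one_pow]
      rw [Commute.mul_pow (hab e heA _ (mul_mem hc hc)), ← pow_two, ← pow_mul, ← pow_succ'] at h2
      rw [eq_inv_of_mul_eq_one_left h2, inv_eq_of_mul_eq_one_right (hth2 c hc)])
    refine exponent_contradiction hP htr hinv hab hZA hCA hAtop hk1 hspec hexists fun y hy b hb => ?_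
    refine hEinj _ ?_ ?_
    · rw [← pow_add, ← two_mul, ← pow_succ']
      exact hδθ y b hb
    · rw [← hGE y b hb, hG0 y hy]; rfl
  · -- exponent four
    subst hk0
    simp only [zero_add, pow_zero, pow_one] at hδθ hth2 hGE hspec
    set δ : P → P → P := fun y b => y * b * y⁻¹ * b⁻¹ with hδ
    have hδA : ∀ y, ∀ b ∈ A, δ y b ∈ A := fun y b hb => mul_mem (hnorm y b hb) (inv_mem hb)
    have hδ2 : ∀ y, ∀ b ∈ A, δ y b * δ y b = 1 := fun y b hb => by
      have h := hδθ y b hb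
      rwa [pow_two] at h
    have hδc : ∀ y, ∀ b ∈ A, δ y b ∈ center P := fun y b hb => invol_central hP htr (hδ2 y b hb)
    have hδadd : ∀ y v, ∀ b ∈ A, δ (y * v) b = δ y b * δ v b := fun y v b hb => by
      have hz := hδc v b hb
      calc δ (y * v) b = y * δ v b * (b * y⁻¹ * b⁻¹) := by simp only [hδ]; group
        _ = δ v b * δ y b := by rw [hzc hz y]; simp only [hδ]; group
        _ = _ := (hzc hz _).symm
    have hδzero : ∀ {y b : P}, b ∈ A → δ y b = 1 → y * b = b * y := fun {y b} _ h => by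
      simp only [hδ] at h
      rwa [mul_inv_eq_one, mul_inv_eq_iff_eq_mul] at h
    have hsqA : ∀ y : P, y * y ∈ A := fun y => hCA _ fun b hb => hδzero hb (by
      rw [hδadd y y b hb]; exact hδ2 y b hb)
    have hcommA : ∀ y v : P, v * y * v⁻¹ * y⁻¹ ∈ A := fun y v => by
      have hh := mul_mem (mul_mem (hsqA (v * y)) (hnorm y⁻¹ _ (inv_mem (hsqA v)))) (inv_mem (hsqA y))
      have e : v * y * v⁻¹ * y⁻¹ =
          v * y * (v * y) * (y⁻¹ * (v * v)⁻¹ * y⁻¹⁻¹) * (y * y)⁻¹ := by group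
      rw [e]; exact hh
    letI : Fintype ((GaloisField 2 n) ≃+* (GaloisField 2 n)) := Cfsg.Agent.S1140.autFintype
    obtain ⟨Ψ, hΨ⟩ := Cfsg.Agent.S1140.exists_coeffs (F := GaloisField 2 n)
    let Φ : P → ((GaloisField 2 n) ≃+* (GaloisField 2 n)) → (GaloisField 2 n) := fun y => Ψ (G y)
    have hΦ : ∀ y u, ∑ σ, Φ y σ * σ u = G y u := fun y u => (hΨ (G y) u).symm
    have hΦmul : ∀ y v, Φ (y * v) = Φ y + Φ v := fun y v => by simp only [Φ, hG, map_add]
    have hΦκ : ∀ y, Φ (κ y) = fun σ => rho ζ σ * Φ y σ := by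
      intro y
      refine sub_eq_zero.mp (aut_coeff_zero fun u => ?_)
      simp only [Pi.sub_apply, sub_mul, Finset.sum_sub_distrib]
      rw [hΦ, sub_eq_zero]
      have h := hGκ y (u / ζ)
      rw [mul_div_cancel₀ u hζ] at h
      rw [h, ← hΦ y (u / ζ), Finset.mul_sum]
      exact Finset.sum_congr rfl fun σ _ => by rw [map_div₀, rho]; ring
    have hΦ1 : ∀ y, Φ y 1 = 0 := by
      intro y
      by_contra hy
      have hΦone : Φ 1 = 0 := by simpa using hΦmul 1 1
      let N : Subgroup P :=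
        { carrier := {v | Φ v 1 = 0}
          mul_mem' := fun {a b} ha hb => by
            change Φ (a * b) 1 = 0
            rw [hΦmul, Pi.add_apply, show Φ a 1 = 0 from ha, show Φ b 1 = 0 from hb, add_zero]
          one_mem' := by change Φ 1 1 = 0; rw [hΦone]; rfl
          inv_mem' := fun {a} ha => by
            have h := congrFun (hΦmul a a⁻¹) 1
            rw [mul_inv_cancel, hΦone, Pi.add_apply, show Φ a 1 = 0 from ha, zero_add] at h
            exact h.symm }
      have hrho : rho ζ (1 : (GaloisField 2 n) ≃+* (GaloisField 2 n)) = 1 := div_self hζ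
      refine hnf N (fun v hv => ?_) y hy ?_
      · change Φ (κ v) 1 = 0
        rw [hΦκ v]
        change rho ζ 1 * Φ v 1 = 0
        rw [show Φ v 1 = 0 from hv, mul_zero]
      · change Φ (y⁻¹ * κ y) 1 = 0
        have h := congrFun (hΦmul y (y⁻¹ * κ y)) 1
        rw [mul_inv_cancel_left, hΦκ y, Pi.add_apply] at h
        simp only [hrho, one_mul, left_eq_add] at h
        exact h
    -- the quadratic map
    let s : P → (GaloisField 2 n) := fun y => E ((y * y) ^ 2)
    let c : P → P → (GaloisField 2 n) := fun y v => E ((v * y * v⁻¹ * y⁻¹) ^ 2)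
    have hA2 : ∀ a ∈ A, a ^ 2 * a ^ 2 = 1 := fun a ha => hth2 a ha
    have hs := quadratic_core hgen hζ Φ hΦmul (fun y => ⟨κ y, hΦκ y⟩) hΦ1 s c (fun y v => ?_)
      (fun u v w => ?_) (fun y v => ?_) (fun y hy => ?_) (fun y => ?_) (fun v w => ?_)
    · intro x
      have h := hEinj _ (hA2 _ (hsqA x)) (hs x)
      rw [pow_two] at h
      exact invol_central hP htr h
    · have hcA := hcommA y v
      have hd := hδc y _ hcA
      have h : y * v * (y * v) = δ y (v * y * v⁻¹ * y⁻¹) * (v * y * v⁻¹ * y⁻¹) * ((y * y) * (v * v)) := by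
        simp only [hδ]; group
      change E ((y * v * (y * v)) ^ 2) = _
      rw [h, Commute.mul_pow (hab _ (mul_mem (hδA y _ hcA) hcA) _ (mul_mem (hsqA y) (hsqA v))),
        Commute.mul_pow (hab _ (hδA y _ hcA) _ hcA), pow_two (δ y _), hδ2 y _ hcA, one_mul,
        Commute.mul_pow (hab _ (hsqA y) _ (hsqA v)),
        hEmul _ _ (hA2 _ hcA) (mul_mem (show _ ∈ omega hP htr from hA2 _ (hsqA y))
          (show _ ∈ omega hP htr from hA2 _ (hsqA v))),
        hEmul _ _ (hA2 _ (hsqA y)) (hA2 _ (hsqA v))]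
      simp only [s, c]
      ring
    · have h1 := hcommA u w
      have h2 := hcommA v w
      have h : w * (u * v) * w⁻¹ * (u * v)⁻¹ =
          (w * u * w⁻¹ * u⁻¹) * (δ u (w * v * w⁻¹ * v⁻¹) * (w * v * w⁻¹ * v⁻¹)) := by
        simp only [hδ]; group
      change E ((w * (u * v) * w⁻¹ * (u * v)⁻¹) ^ 2) = _
      rw [h, Commute.mul_pow (hab _ h1 _ (mul_mem (hδA u _ h2) h2)),
        Commute.mul_pow (hab _ (hδA u _ h2) _ h2), pow_two (δ u _), hδ2 u _ h2, one_mul,
        hEmul _ _ (hA2 _ h1) (hA2 _ h2)]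
    · have h : v * y * v⁻¹ * y⁻¹ = (y * v * y⁻¹ * v⁻¹)⁻¹ := by group
      change E ((v * y * v⁻¹ * y⁻¹) ^ 2) = E ((y * v * y⁻¹ * v⁻¹) ^ 2)
      rw [h, inv_pow, inv_eq_of_mul_eq_one_right (hA2 _ (hcommA v y))]
    · have hyA : y ∈ A := hCA y fun b hb => hδzero hb (by
        refine hEinj _ (hδ2 y b hb) ?_
        rw [← hGE y b hb, ← hΦ, hy]; simp)
      change E ((y * y) ^ 2) = 0
      rw [pow_two, ← mul_assoc, show y * y * y * y = y ^ 2 * y ^ 2 by rw [pow_two]; group, hA2 y hyA, hE1]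
    · rw [hΦ]
      change G y (E ((y * y) ^ 2)) = 0
      rw [hGE y _ (hsqA y), show y * (y * y) * y⁻¹ * (y * y)⁻¹ = 1 by group, hE1]
    · have hd := hcommA v w
      set d := w * v * w⁻¹ * v⁻¹ with hd'
      rw [hΦ, hΦ]
      change E (d ^ 2) + G v (E (d ^ 2)) = G w (E ((v * v) ^ 2))
      rw [hGE v d hd, hGE w _ (hsqA v)]
      have hz := hδc v d hd
      have e : w * (v * v) * w⁻¹ * (v * v)⁻¹ = d ^ 2 * δ v d := by
        calc w * (v * v) * w⁻¹ * (v * v)⁻¹ = d * (δ v d * d) := by simp only [hδ, hd']; group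
          _ = d * (d * δ v d) := by rw [hzc hz d]
          _ = _ := by rw [pow_two]; exact (mul_assoc d d _).symm
      rw [e, hEmul _ _ (hA2 d hd) (hδ2 v d hd)]

/-- **Higman**: all squares are central -/
theorem sq_mem_center [Finite P] (hP : IsPGroup 2 P) (htr : InvTrans κ) (hreg : Reg κ)
    (hne : ∃ x y : P, x * y ≠ y * x) : ∀ x : P, x * x ∈ center P :=
  sq_mem_center_of_noFix hP htr (fun _ hN _ hx h => no_fixed_coset hP hreg hN hx h) hne

end Cfsg.Agent.Lib.Suzuki
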