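import Cfsg.Agent.S1140
import Mathlib.FieldTheory.Finite.GaloisField
import Mathlib.Algebra.Field.IsField
import Mathlib.Algebra.Ring.Subring.Basic

/-!
A finite group of exponent two with an automorphism that is transitive on the non-identity elements is
the additive group of a finite field, the automorphism becoming multiplication by a generator of the
multiplicative group.  Coefficients of biadditive maps on such a field.
-/

set_option autoImplicit false

namespace Cfsg.Agent.Lib.Suzuki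

/-- additive form: `V` with a transitive automorphism `T` is the field of endomorphisms commuting with `T` -/
theorem exists_field_model_add {V : Type*} [AddCommGroup V] [Finite V] (T : V ≃+ V) {n : ℕ}
    (hn : 1 ≤ n) (hcard : Nat.card V = 2 ^ n)
    (htr : ∀ v w : V, v ≠ 0 → w ≠ 0 → ∃ k : ℕ, T^[k] v = w) :
    ∃ ζ : GaloisField 2 n, (∀ x : GaloisField 2 n, x ≠ 0 → ∃ k : ℕ, ζ ^ k = x) ∧
      ∃ e : V ≃+ GaloisField 2 n, ∀ v, e (T v) = ζ * e v := by
  classical
  obtain ⟨v₀, hv₀⟩ : ∃ v : V, v ≠ 0 := by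
    by_contra h
    push Not at h
    haveI : Subsingleton V := ⟨fun a b => (h a).trans (h b).symm⟩
    rw [Nat.card_of_subsingleton (0 : V)] at hcard
    exact (Nat.one_lt_two_pow (by omega)).ne hcard
  let T' : AddMonoid.End V := T.toAddMonoidHom
  have hT' : ∀ v, T' v = T v := fun v => rfl
  have hTk : ∀ (k : ℕ) (v : V), (T' ^ k) v = T^[k] v := by
    intro k
    induction k with
    | zero => intro v; rfl
    | succ k ih =>
      intro v
      rw [pow_succ', Function.iterate_succ_apply', ← ih]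
      rfl
  let R : Subring (AddMonoid.End V) := Subring.centralizer {T'}
  have hR : ∀ f : R, ∀ (k : ℕ) (v : V), (f : AddMonoid.End V) (T^[k] v) = T^[k] ((f : AddMonoid.End V) v) := by
    intro f k
    induction k with
    | zero => intro v; rfl
    | succ k ih =>
      intro v
      rw [Function.iterate_succ_apply', Function.iterate_succ_apply', ← ih]
      have h := Subring.mem_centralizer_iff.mp f.2 T' rfl
      exact (DFunLike.congr_fun h _).symm
  have hpowR : ∀ k : ℕ, T' ^ k ∈ R := fun k =>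
    pow_mem (Subring.mem_centralizer_iff.mpr fun g hg => by rw [Set.mem_singleton_iff.mp hg]) k
  -- evaluation at `v₀`
  let ev : R →+ V :=
    { toFun := fun f => (f : AddMonoid.End V) v₀
      map_zero' := rfl
      map_add' := fun f g => rfl }
  have hinj : Function.Injective ev := by
    intro f g h
    apply Subtype.ext
    ext v
    by_cases hv : v = 0
    · rw [hv, map_zero, map_zero]
    · obtain ⟨k, rfl⟩ := htr v₀ v hv₀ hv
      rw [hR, hR]
      exact congrArg (T^[k]) h
  have hsurj : Function.Surjective ev := by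
    intro v
    by_cases hv : v = 0
    · exact ⟨0, by rw [map_zero, hv]⟩
    · obtain ⟨k, rfl⟩ := htr v₀ v hv₀ hv
      exact ⟨⟨T' ^ k, hpowR k⟩, hTk k v₀⟩
  have hgen : ∀ f : R, f ≠ 0 → ∃ k : ℕ, (⟨T' ^ k, hpowR k⟩ : R) = f := by
    intro f hf
    have hv : ev f ≠ 0 := fun h => hf (hinj (h.trans (map_zero ev).symm))
    obtain ⟨k, hk⟩ := htr v₀ (ev f) hv₀ hv
    exact ⟨k, hinj ((hTk k v₀).trans hk)⟩
  let t : R := ⟨T', by simpa using hpowR 1⟩
  have htk : ∀ k : ℕ, (⟨T' ^ k, hpowR k⟩ : R) = t ^ k := fun k => Subtype.ext (by simp [t])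
  have hcomm : ∀ f g : R, f * g = g * f := by
    intro f g
    by_cases hf : f = 0
    · simp [hf]
    by_cases hg : g = 0
    · simp [hg]
    obtain ⟨a, ha⟩ := hgen f hf
    obtain ⟨b, hb⟩ := hgen g hg
    rw [← ha, ← hb, htk, htk, ← pow_add, ← pow_add, add_comm]
  haveI : Nontrivial R := by
    refine ⟨1, 0, fun h => hv₀ ?_⟩
    exact congrArg ev h
  have hfield : IsField R := by
    refine ⟨exists_pair_ne R, hcomm, fun {f} hf => ?_⟩
    have hv : ev f ≠ 0 := fun h => hf (hinj (h.trans (map_zero ev).symm))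
    obtain ⟨k, hk⟩ := htr (ev f) v₀ hv hv₀
    refine ⟨⟨T' ^ k, hpowR k⟩, hinj ?_⟩
    change (f : AddMonoid.End V) ((T' ^ k) v₀) = v₀
    rw [hTk, hR f k v₀]
    exact hk
  letI : Field R := hfield.toField
  let evE : R ≃+ V := AddEquiv.ofBijective ev ⟨hinj, hsurj⟩
  haveI : Finite R := Finite.of_equiv V evE.symm.toEquiv
  haveI : Fintype R := Fintype.ofFinite R
  haveI : Fintype (GaloisField 2 n) := Fintype.ofFinite _
  have hc : Fintype.card R = Fintype.card (GaloisField 2 n) := by
    rw [← Nat.card_eq_fintype_card, ← Nat.card_eq_fintype_card, GaloisField.card 2 n (by omega),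
      Nat.card_congr evE.toEquiv, hcard]
  let ψ : R ≃+* GaloisField 2 n := FiniteField.ringEquivOfCardEq hc
  refine ⟨ψ t, fun x hx => ?_, evE.symm.trans ψ.toAddEquiv, fun v => ?_⟩
  · obtain ⟨k, hk⟩ := hgen (ψ.symm x) (by simpa using hx)
    exact ⟨k, by rw [← map_pow, ← htk, hk, RingEquiv.apply_symm_apply]⟩
  · change ψ (evE.symm (T v)) = ψ t * ψ (evE.symm v)
    rw [← map_mul]
    refine congrArg ψ (evE.injective ?_)
    rw [AddEquiv.apply_symm_apply]
    change T v = T' (ev (evE.symm v))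
    exact congrArg T' (evE.apply_symm_apply v).symm

/-- multiplicative form, for a group of exponent two -/
theorem exists_field_model {V : Type*} [Group V] [Finite V] (hexp : ∀ x : V, x * x = 1) (T : V ≃* V)
    {n : ℕ} (hn : 1 ≤ n) (hcard : Nat.card V = 2 ^ n)
    (htr : ∀ v w : V, v ≠ 1 → w ≠ 1 → ∃ k : ℕ, T^[k] v = w) :
    ∃ ζ : GaloisField 2 n, (∀ x : GaloisField 2 n, x ≠ 0 → ∃ k : ℕ, ζ ^ k = x) ∧
      ∃ e : V ≃ GaloisField 2 n, (∀ a b, e (a * b) = e a + e b) ∧ ∀ v, e (T v) = ζ * e v := by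
  have hinv : ∀ x : V, x⁻¹ = x := fun x => inv_eq_of_mul_eq_one_right (hexp x)
  letI : CommGroup V :=
    { ‹Group V› with
      mul_comm := fun a b => by
        calc a * b = (a * b)⁻¹ := (hinv _).symm
          _ = b⁻¹ * a⁻¹ := mul_inv_rev a b
          _ = b * a := by rw [hinv, hinv] }
  haveI : Finite (Additive V) := ‹Finite V›
  obtain ⟨ζ, hζ, e, he⟩ := exists_field_model_add (V := Additive V) (MulEquiv.toAdditive T) hn hcard
    (fun v w hv hw => htr v w hv hw)
  exact ⟨ζ, hζ, Additive.ofMul.trans e.toEquiv, fun a b => map_add e _ _, fun v => he v⟩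

variable {F : Type*} [Field F] [Fintype F] [CharP F 2]

theorem aut_coeff_zero [Fintype (F ≃+* F)] {d : (F ≃+* F) → F}
    (h : ∀ x : F, ∑ σ : F ≃+* F, d σ * σ x = 0) : d = 0 := by
  funext σ
  have hli := Cfsg.Agent.S1140.linearIndependent_auts (F := F)
  rw [Fintype.linearIndependent_iff] at hli
  refine hli d ?_ σ
  funext x
  simp only [Finset.sum_apply, Pi.smul_apply, smul_eq_mul, Pi.zero_apply]
  exact h x

theorem bil_coeff_zero [Fintype (F ≃+* F)] {c : (F ≃+* F) × (F ≃+* F) → F}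
    (h : ∀ x y : F, ∑ p, c p * (p.1 x * p.2 y) = 0) : c = 0 := by
  funext p
  obtain ⟨σ, τ⟩ := p
  have h1 : ∀ x : F, (fun τ => ∑ σ : F ≃+* F, c (σ, τ) * σ x) = 0 := by
    intro x
    apply aut_coeff_zero
    intro y
    rw [← h x y, Fintype.sum_prod_type_right]
    refine Finset.sum_congr rfl fun τ _ => ?_
    rw [Finset.sum_mul]
    exact Finset.sum_congr rfl fun σ _ => mul_assoc _ _ _
  exact congrFun (aut_coeff_zero (d := fun σ => c (σ, τ)) fun x => congrFun (h1 x) τ) σ

/-- the exponents occurring in an equivariant biadditive map -/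
theorem bil_expand [Fintype (F ≃+* F)] (B : F → F → F)
    (hl : ∀ x x' y, B (x + x') y = B x y + B x' y) (hr : ∀ x y y', B x (y + y') = B x y + B x y')
    {ζ μ : F} (heq : ∀ x y, B (ζ * x) (ζ * y) = μ * B x y) :
    ∃ c : (F ≃+* F) × (F ≃+* F) → F, (∀ x y, B x y = ∑ p, c p * (p.1 x * p.2 y)) ∧
      ∀ p, c p ≠ 0 → p.1 ζ * p.2 ζ = μ := by
  classical
  let B' : F →+ F →+ F :=
    AddMonoidHom.mk' (fun x => AddMonoidHom.mk' (B x) (hr x)) fun x x' => by ext y; exact hl x x' y
  obtain ⟨s, c, hc⟩ := (Cfsg.Agent.S1140.result (F := F)).2.2 B'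
  let c' := fun p => if p ∈ s then c p else 0
  have hc' : ∀ x y, B x y = ∑ p, c' p * (p.1 x * p.2 y) := by
    intro x y
    rw [show B x y = B' x y from rfl, hc x y]
    simp [c', ite_mul, Finset.sum_ite_mem]
  have hzero : (fun p => c' p * (p.1 ζ * p.2 ζ - μ)) = 0 := by
    apply bil_coeff_zero
    intro x y
    have h1 : ∀ p : (F ≃+* F) × (F ≃+* F), c' p * (p.1 ζ * p.2 ζ - μ) * (p.1 x * p.2 y) =
        c' p * (p.1 (ζ * x) * p.2 (ζ * y)) - μ * (c' p * (p.1 x * p.2 y)) := fun p => by
      rw [map_mul, map_mul]; ring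
    rw [Finset.sum_congr rfl fun p _ => h1 p, Finset.sum_sub_distrib, ← Finset.mul_sum, ← hc', ← hc', heq,
      sub_self]
  refine ⟨c', hc', fun p hp => ?_⟩
  exact sub_eq_zero.mp ((mul_eq_zero.mp (congrFun hzero p)).resolve_left hp)

/-- an alternating biadditive map commuting with multiplication by a generator vanishes -/
theorem alternating_eq_zero {ζ : F} (hgen : ∀ x : F, x ≠ 0 → ∃ k : ℕ, ζ ^ k = x) (B : F → F → F)
    (hl : ∀ x x' y, B (x + x') y = B x y + B x' y) (hr : ∀ x y y', B x (y + y') = B x y + B x y')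
    (heq : ∀ x y, B (ζ * x) (ζ * y) = ζ * B x y) (halt : ∀ x, B x x = 0) : ∀ x y, B x y = 0 := by
  classical
  haveI : Fintype (F ≃+* F) := Cfsg.Agent.S1140.autFintype
  obtain ⟨c, hc, hcp⟩ := bil_expand B hl hr heq
  -- an admissible pair `(σ, τ)` has `σ x * τ x = x`, so `σ = τ`
  have hid : ∀ p : (F ≃+* F) × (F ≃+* F), c p ≠ 0 → ∀ x : F, p.1 x * p.2 x = x := by
    intro p hp x
    by_cases hx : x = 0
    · simp [hx]
    · obtain ⟨k, rfl⟩ := hgen x hx
      rw [map_pow, map_pow, ← mul_pow, hcp p hp]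
  have hdiag : ∀ p : (F ≃+* F) × (F ≃+* F), c p ≠ 0 → p.1 = p.2 := by
    intro p hp
    refine RingEquiv.ext fun x => ?_
    have h1 := hid p hp (x + 1)
    rw [map_add, map_add, map_one, map_one] at h1
    have h2 : p.1 x + p.2 x = 0 := by linear_combination h1 - hid p hp x
    exact CharTwo.add_eq_zero.mp h2
  have huniq : ∀ p q : (F ≃+* F) × (F ≃+* F), c p ≠ 0 → c q ≠ 0 → p = q := by
    intro p q hp hq
    have hσ : p.1 = q.1 := by
      refine RingEquiv.ext fun x => CharTwo.sq_injective ?_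
      calc p.1 x ^ 2 = p.1 x * p.2 x := by rw [← hdiag p hp, pow_two]
        _ = q.1 x * q.2 x := by rw [hid p hp, hid q hq]
        _ = q.1 x ^ 2 := by rw [← hdiag q hq, pow_two]
    exact Prod.ext hσ (by rw [← hdiag p hp, ← hdiag q hq, hσ])
  intro x y
  rw [hc]
  refine Finset.sum_eq_zero fun p _ => ?_
  by_cases hp : c p = 0
  · rw [hp, zero_mul]
  exfalso
  have h := hc 1 1
  rw [halt, Finset.sum_eq_single p (fun q _ hq => by
    by_cases hq0 : c q = 0
    · rw [hq0, zero_mul]
    · exact absurd (huniq q p hq0 hp) hq) (fun h => absurd (Finset.mem_univ p) h)] at h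
  simp only [map_one, mul_one] at h
  exact hp h.symm

end Cfsg.Agent.Lib.Suzuki
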