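import Cfsg.Prelude.Def_LieRecognition
import Cfsg.Agent.Lib.Solvable.Nilpotent
import Cfsg.Agent.Lib.Suzuki.Field

/-!
Basic facts on a finite 2-group with an automorphism `κ` whose powers are transitive on the involutions.
-/

set_option autoImplicit false

namespace Cfsg.Agent.Lib.Suzuki

open Subgroup

universe u

variable {P : Type u} [Group P]

/-- the powers of `κ` are transitive on the involutions -/
def InvTrans (κ : MulAut P) : Prop :=
  ∀ x y : P, x ≠ 1 → x * x = 1 → y ≠ 1 → y * y = 1 → ∃ j : ℕ, (κ ^ j) x = y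

/-- `H` is mapped into itself by `κ` -/
def Inv (κ : MulAut P) (H : Subgroup P) : Prop := ∀ x ∈ H, κ x ∈ H

variable {κ : MulAut P}

theorem pow_apply_eq_iterate (κ : MulAut P) (j : ℕ) (x : P) : (κ ^ j) x = (⇑κ)^[j] x := by
  induction j with
  | zero => rfl
  | succ j ih => rw [pow_succ', MulAut.mul_apply, ih, Function.iterate_succ_apply']

theorem Inv.pow {H : Subgroup P} (h : Inv κ H) (j : ℕ) {x : P} (hx : x ∈ H) : (κ ^ j) x ∈ H := by
  induction j with
  | zero => simpa using hx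
  | succ j ih => rw [pow_succ', MulAut.mul_apply]; exact h _ ih

/-- every element has a preimage inside an invariant subgroup of a finite group -/
theorem Inv.exists_eq [Finite P] {H : Subgroup P} (h : Inv κ H) {y : P} (hy : y ∈ H) :
    ∃ x ∈ H, κ x = y := by
  let f : H → H := fun x => ⟨κ x, h x x.2⟩
  have hf : Function.Injective f := fun a b hab =>
    Subtype.ext (κ.injective (congrArg Subtype.val hab))
  obtain ⟨x, hx⟩ := (Finite.injective_iff_surjective.mp hf) ⟨y, hy⟩
  exact ⟨x, x.2, congrArg Subtype.val hx⟩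

theorem inv_center (κ : MulAut P) : Inv κ (center P) := fun x hx => by
  rw [mem_center_iff] at hx ⊢
  intro g
  obtain ⟨g, rfl⟩ := κ.surjective g
  rw [← map_mul, ← map_mul, hx g]

/-- the 2-subgroup contains an involution -/
theorem exists_invol_mem (hP : IsPGroup 2 P) {H : Subgroup P} {x : P} (hx : x ∈ H) (hx1 : x ≠ 1) :
    ∃ t ∈ H, t ≠ 1 ∧ t * t = 1 := by
  obtain ⟨k, hk⟩ := hP x
  induction k generalizing x with
  | zero => exact absurd (by simpa using hk) hx1
  | succ k ih =>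
    by_cases h2 : x * x = 1
    · exact ⟨x, hx, hx1, h2⟩
    · refine ih (mul_mem hx hx) h2 ?_
      rw [← pow_two, ← pow_mul, ← pow_succ']
      exact hk

/-- all involutions are central -/
theorem invol_central [Finite P] (hP : IsPGroup 2 P) (htr : InvTrans κ) {x : P} (hx : x * x = 1) :
    x ∈ center P := by
  by_cases hx1 : x = 1
  · exact hx1 ▸ one_mem _
  haveI : Fact (Nat.Prime 2) := ⟨Nat.prime_two⟩
  haveI : Nontrivial P := ⟨⟨x, 1, hx1⟩⟩
  haveI := hP.center_nontrivial
  obtain ⟨z, hz, hz1⟩ := Subgroup.exists_ne_one_of_nontrivial (center P)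
  obtain ⟨t, ht, ht1, ht2⟩ := exists_invol_mem hP hz hz1
  obtain ⟨j, rfl⟩ := htr t x ht1 ht2 hx1 hx
  exact (inv_center κ).pow j ht

/-- an invariant subgroup with a non-identity element contains all involutions -/
theorem invol_mem (hP : IsPGroup 2 P) (htr : InvTrans κ) {H : Subgroup P}
    (hH : Inv κ H) {y : P} (hy : y ∈ H) (hy1 : y ≠ 1) {x : P} (hx : x * x = 1) : x ∈ H := by
  by_cases hx1 : x = 1
  · exact hx1 ▸ one_mem _
  obtain ⟨t, ht, ht1, ht2⟩ := exists_invol_mem hP hy hy1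
  obtain ⟨j, rfl⟩ := htr t x ht1 ht2 hx1 hx
  exact hH.pow j ht

/-- the subgroup of elements of square one -/
def omega [Finite P] (hP : IsPGroup 2 P) (htr : InvTrans κ) : Subgroup P where
  carrier := {x | x * x = 1}
  mul_mem' := by
    intro a b ha hb
    change a * b * (a * b) = 1
    have h : b * a = a * b := mem_center_iff.mp (invol_central hP htr ha) b
    calc a * b * (a * b) = a * (b * a) * b := by group
      _ = (a * a) * (b * b) := by rw [h]; group
      _ = 1 := by rw [show a * a = 1 from ha, show b * b = 1 from hb, one_mul]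
  one_mem' := one_mul 1
  inv_mem' := by
    intro a ha
    change a⁻¹ * a⁻¹ = 1
    rw [← mul_inv_rev, show a * a = 1 from ha, inv_one]

theorem mem_omega [Finite P] {hP : IsPGroup 2 P} {htr : InvTrans κ} {x : P} :
    x ∈ omega hP htr ↔ x * x = 1 := Iff.rfl

theorem inv_omega [Finite P] (hP : IsPGroup 2 P) (htr : InvTrans κ) : Inv κ (omega hP htr) :=
  fun x hx => by
    change κ x * κ x = 1
    rw [← map_mul, show x * x = 1 from hx, map_one]

/-- `IsSuzukiTwoGroup` yields such an automorphism -/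
theorem exists_invTrans (h : Cfsg.IsSuzukiTwoGroup P) :
    Finite P ∧ IsPGroup 2 P ∧ ∃ κ : MulAut P, InvTrans κ := by
  obtain ⟨hfin, hP, -, -, K, hK, hreg⟩ := h
  haveI := hfin
  haveI : Finite (MulAut P) := Finite.of_injective (fun e : MulAut P => (e : P → P)) DFunLike.coe_injective
  obtain ⟨g, hg⟩ := hK.exists_generator
  refine ⟨hfin, hP, (g : MulAut P), fun x y hx1 hx2 hy1 hy2 => ?_⟩
  obtain ⟨k, hk, -⟩ := hreg x y hx1 hx2 hy1 hy2
  obtain ⟨j, hj⟩ : ∃ j : ℕ, g ^ j = k := by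
    have := mem_powers_iff_mem_zpowers.mpr (hg k)
    exact this
  refine ⟨j, ?_⟩
  rw [← hk, ← hj]
  rfl

/-- a bi-multiplicative alternating map into the involutions, equivariant under `κ`, factoring through a
map onto the involutions, is trivial -/
theorem pairing_trivial [Finite P] (hP : IsPGroup 2 P) (htr : InvTrans κ) (W : Subgroup P)
    (s : P → P) (β : P → P → P) (hW : Inv κ W)
    (hs2 : ∀ w ∈ W, s w * s w = 1) (hsmul : ∀ w ∈ W, ∀ v ∈ W, s (w * v) = s w * s v)
    (hseq : ∀ w ∈ W, s (κ w) = κ (s w)) (hsurj : ∀ x : P, x * x = 1 → ∃ w ∈ W, s w = x)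
    (hβ2 : ∀ w ∈ W, ∀ v ∈ W, β w v * β w v = 1)
    (hβl : ∀ w ∈ W, ∀ w' ∈ W, ∀ v ∈ W, β (w * w') v = β w v * β w' v)
    (hβr : ∀ w ∈ W, ∀ v ∈ W, ∀ v' ∈ W, β w (v * v') = β w v * β w v')
    (hkl : ∀ w ∈ W, s w = 1 → ∀ v ∈ W, β w v = 1) (hkr : ∀ v ∈ W, s v = 1 → ∀ w ∈ W, β w v = 1)
    (hβeq : ∀ w ∈ W, ∀ v ∈ W, β (κ w) (κ v) = κ (β w v)) (halt : ∀ w ∈ W, β w w = 1) :
    ∀ w ∈ W, ∀ v ∈ W, β w v = 1 := by
  classical
  set Ω := omega hP htr with hΩ
  by_cases hbot : Ω = ⊥
  · intro w hw v hv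
    have : β w v ∈ Ω := hβ2 w hw v hv
    rwa [hbot, mem_bot] at this
  haveI : Nontrivial Ω := (nontrivial_iff_ne_bot Ω).mpr hbot
  haveI : Fact (Nat.Prime 2) := ⟨Nat.prime_two⟩
  obtain ⟨n, hn0, hn⟩ := (hP.to_subgroup Ω).nontrivial_iff_card.mp inferInstance
  let T : Ω ≃* Ω := MulEquiv.ofBijective
    ((κ.toMonoidHom.comp Ω.subtype).codRestrict Ω fun x => inv_omega hP htr _ x.2)
    (Finite.injective_iff_bijective.mp fun a b hab =>
      Subtype.ext (κ.injective (congrArg Subtype.val hab)))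
  have hT : ∀ x : Ω, (T x : P) = κ x := fun x => rfl
  obtain ⟨ζ, hζ, e, he, heT⟩ := exists_field_model (V := Ω) (fun x => Subtype.ext x.2) T hn0 hn
    (fun v w hv hw => by
      obtain ⟨j, hj⟩ := htr v w (fun h => hv (Subtype.ext h)) v.2 (fun h => hw (Subtype.ext h)) w.2
      refine ⟨j, Subtype.ext ?_⟩
      rw [← hj, pow_apply_eq_iterate]
      clear hj
      induction j with
      | zero => rfl
      | succ j ih => rw [Function.iterate_succ_apply', Function.iterate_succ_apply', hT, ih])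
  choose r hrW hr using fun x : Ω => hsurj x x.2
  -- `β` only depends on the values of `s`
  have hl : ∀ w ∈ W, ∀ w' ∈ W, s w = s w' → ∀ v ∈ W, β w v = β w' v := by
    intro w hw w' hw' h v hv
    have hd : w'⁻¹ * w ∈ W := mul_mem (inv_mem hw') hw
    have h2 := hsmul w' hw' _ hd
    rw [mul_inv_cancel_left, h] at h2
    have h3 := hβl w' hw' _ hd v hv
    rwa [mul_inv_cancel_left, hkl _ hd (mul_eq_left.mp h2.symm) v hv, mul_one] at h3
  have hr' : ∀ v ∈ W, ∀ v' ∈ W, s v = s v' → ∀ w ∈ W, β w v = β w v' := by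
    intro v hv v' hv' h w hw
    have hd : v'⁻¹ * v ∈ W := mul_mem (inv_mem hv') hv
    have h2 := hsmul v' hv' _ hd
    rw [mul_inv_cancel_left, h] at h2
    have h3 := hβr w hw v' hv' _ hd
    rwa [mul_inv_cancel_left, hkr _ hd (mul_eq_left.mp h2.symm) w hw, mul_one] at h3
  let β' : Ω → Ω → Ω := fun a b => ⟨β (r a) (r b), hβ2 _ (hrW a) _ (hrW b)⟩
  haveI : Fintype (GaloisField 2 n) := Fintype.ofFinite _
  let B : GaloisField 2 n → GaloisField 2 n → GaloisField 2 n := fun x y => e (β' (e.symm x) (e.symm y))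
  have hsymm : ∀ x y, e.symm (x + y) = e.symm x * e.symm y := fun x y => by
    rw [Equiv.symm_apply_eq, he, Equiv.apply_symm_apply, Equiv.apply_symm_apply]
  have hsymmT : ∀ x, e.symm (ζ * x) = T (e.symm x) := fun x => by
    rw [Equiv.symm_apply_eq, heT, Equiv.apply_symm_apply]
  have he1 : e 1 = 0 := by
    have h := he 1 1
    rwa [mul_one, eq_comm, add_eq_left] at h
  have h1 : ∀ a b c : Ω, β' (a * b) c = β' a c * β' b c := by
    intro a b c
    apply Subtype.ext
    change β (r (a * b)) (r c) = β (r a) (r c) * β (r b) (r c)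
    rw [← hβl _ (hrW a) _ (hrW b) _ (hrW c)]
    exact hl _ (hrW _) _ (mul_mem (hrW a) (hrW b))
      (by rw [hr, hsmul _ (hrW a) _ (hrW b), hr, hr]; rfl) _ (hrW c)
  have h2 : ∀ a b c : Ω, β' a (b * c) = β' a b * β' a c := by
    intro a b c
    apply Subtype.ext
    change β (r a) (r (b * c)) = β (r a) (r b) * β (r a) (r c)
    rw [← hβr _ (hrW a) _ (hrW b) _ (hrW c)]
    exact hr' _ (hrW _) _ (mul_mem (hrW b) (hrW c))
      (by rw [hr, hsmul _ (hrW b) _ (hrW c), hr, hr]; rfl) _ (hrW a)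
  have h3 : ∀ a b : Ω, β' (T a) (T b) = T (β' a b) := by
    intro a b
    apply Subtype.ext
    change β (r (T a)) (r (T b)) = κ (β (r a) (r b))
    rw [← hβeq _ (hrW a) _ (hrW b),
      hl _ (hrW _) _ (hW _ (hrW a)) (by rw [hr, hseq _ (hrW a), hr, hT]) _ (hrW _),
      hr' _ (hrW _) _ (hW _ (hrW b)) (by rw [hr, hseq _ (hrW b), hr, hT]) _ (hW _ (hrW a))]
  have hB : ∀ x y, B x y = 0 := by
    refine alternating_eq_zero hζ B (fun x x' y => ?_) (fun x y y' => ?_) (fun x y => ?_) (fun x => ?_)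
    · simp only [B]; rw [hsymm, h1, he]
    · simp only [B]; rw [hsymm, h2, he]
    · simp only [B]; rw [hsymmT, hsymmT, h3, heT]
    · simp only [B]
      rw [show β' (e.symm x) (e.symm x) = 1 from Subtype.ext (halt _ (hrW _)), he1]
  intro w hw v hv
  let a : Ω := ⟨s w, hs2 w hw⟩
  let b : Ω := ⟨s v, hs2 v hv⟩
  have h := hB (e a) (e b)
  simp only [B, Equiv.symm_apply_apply] at h
  rw [← he1] at h
  have h4 : β (r a) (r b) = 1 := congrArg Subtype.val (e.injective h)
  rw [← h4, hl _ (hrW a) w hw (hr a) _ (hrW b), hr' _ (hrW b) v hv (hr b) w hw]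

end Cfsg.Agent.Lib.Suzuki
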