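import Cfsg.Agent.Lib.Suzuki.Basic

/-!
In a non-abelian finite 2-group with an automorphism transitive on the involutions the centre has
exponent two.
-/

set_option autoImplicit false

namespace Cfsg.Agent.Lib.Suzuki

open Subgroup

universe u

variable {P : Type u} [Group P] {κ : MulAut P}

/-- elements `y` whose class modulo the normal subgroup `A` is central of order at most two -/
def layer (A : Subgroup P) [A.Normal] : Subgroup P :=
  Subgroup.comap (QuotientGroup.mk' A)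
    { carrier := {z | z ∈ center (P ⧸ A) ∧ z * z = 1}
      mul_mem' := fun {a b} ha hb => ⟨mul_mem ha.1 hb.1, by
        rw [mul_assoc, ← mul_assoc b a b, mem_center_iff.mp ha.1 b, mul_assoc a b b, hb.2, mul_one,
          ha.2]⟩
      one_mem' := ⟨one_mem _, one_mul 1⟩
      inv_mem' := fun {a} ha => ⟨inv_mem ha.1, by rw [← mul_inv_rev, ha.2, inv_one]⟩ }

theorem mem_layer {A : Subgroup P} [A.Normal] {y : P} :
    y ∈ layer A ↔ (∀ x : P, y * x * y⁻¹ * x⁻¹ ∈ A) ∧ y * y ∈ A := by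
  change ((y : P ⧸ A) ∈ center (P ⧸ A) ∧ (y : P ⧸ A) * (y : P ⧸ A) = 1) ↔ _
  rw [mem_center_iff, ← QuotientGroup.mk_mul, QuotientGroup.eq_one_iff]
  refine and_congr_left fun _ => ⟨fun h x => ?_, fun h g => ?_⟩
  · rw [← QuotientGroup.eq_one_iff]
    simp only [QuotientGroup.mk_mul, QuotientGroup.mk_inv]
    rw [← h (x : P ⧸ A), mul_inv_cancel_right, mul_inv_cancel]
  · induction g using QuotientGroup.induction_on with
    | H x =>
      have h1 := (QuotientGroup.eq_one_iff (N := A) _).mpr (h x)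
      simp only [QuotientGroup.mk_mul, QuotientGroup.mk_inv] at h1
      rw [mul_inv_eq_one, mul_inv_eq_iff_eq_mul] at h1
      exact h1.symm

theorem inv_layer {A : Subgroup P} [A.Normal] (hA : Inv κ A) : Inv κ (layer A) := by
  intro y hy
  rw [mem_layer] at hy ⊢
  refine ⟨fun x => ?_, ?_⟩
  · obtain ⟨x, rfl⟩ := κ.surjective x
    rw [← map_inv κ, ← map_inv κ, ← map_mul, ← map_mul, ← map_mul]
    exact hA _ (hy.1 x)
  · rw [← map_mul]; exact hA _ hy.2

/-- a normal subgroup strictly containing `A` meets the layer outside `A` -/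
theorem exists_mem_layer [Finite P] (hP : IsPGroup 2 P) {A N : Subgroup P} [A.Normal] [N.Normal]
    (hAN : A ≤ N) (hne : A ≠ N) : ∃ y ∈ N, y ∈ layer A ∧ y ∉ A := by
  haveI : Fact (Nat.Prime 2) := ⟨Nat.prime_two⟩
  haveI : (N.map (QuotientGroup.mk' A)).Normal :=
    Normal.map inferInstance _ (QuotientGroup.mk'_surjective A)
  haveI : Group.IsNilpotent (P ⧸ A) := (hP.to_quotient A).isNilpotent
  have hN : N.map (QuotientGroup.mk' A) ≠ ⊥ := by
    rw [Ne, Subgroup.map_eq_bot_iff, QuotientGroup.ker_mk']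
    exact fun h => hne (le_antisymm hAN h)
  obtain ⟨z, hz, hz1⟩ :=
    (bot_or_exists_ne_one _).resolve_left (Cfsg.Agent.Lib.Solvable.inf_center_ne_bot hN)
  obtain ⟨t, ht, ht1, ht2⟩ := exists_invol_mem (hP.to_quotient A) hz hz1
  obtain ⟨y, hy, rfl⟩ := ht.1
  exact ⟨y, hy, ⟨ht.2, ht2⟩, fun h => ht1 ((QuotientGroup.eq_one_iff y).mpr h)⟩

/-- square roots in an abelian invariant subgroup whose exponent is `2 ^ (k + 1)` -/
theorem exists_root_of_pow_eq_one [Finite P] (hP : IsPGroup 2 P) (htr : InvTrans κ) {A : Subgroup P}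
    (hinv : Inv κ A) (hab : ∀ a ∈ A, ∀ b ∈ A, a * b = b * a) {k : ℕ}
    (hkill : ∀ a ∈ A, a ^ 2 ^ (k + 1) = 1) {a₀ : P} (ha₀ : a₀ ∈ A) (hmax : a₀ ^ 2 ^ k ≠ 1) :
    (∀ x : P, x * x = 1 → ∃ a ∈ A, a ^ 2 ^ k = x) ∧
      (∀ j, j ≤ k → ∀ a ∈ A, a ^ 2 ^ j = 1 → ∃ b ∈ A, b * b = a) := by
  let H : Subgroup P :=
    { carrier := {x | ∃ a ∈ A, a ^ 2 ^ k = x}
      mul_mem' := fun {x y} ⟨a, ha, hx⟩ ⟨b, hb, hy⟩ =>
        ⟨a * b, mul_mem ha hb, by rw [Commute.mul_pow (hab a ha b hb), hx, hy]⟩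
      one_mem' := ⟨1, one_mem _, one_pow _⟩
      inv_mem' := fun {x} ⟨a, ha, hx⟩ => ⟨a⁻¹, inv_mem ha, by rw [inv_pow, hx]⟩ }
  have hroot : ∀ x : P, x * x = 1 → ∃ a ∈ A, a ^ 2 ^ k = x := fun x hx =>
    invol_mem hP htr (H := H) (fun y ⟨a, ha, hy⟩ => ⟨κ a, hinv a ha, by rw [← map_pow, hy]⟩)
      ⟨a₀, ha₀, rfl⟩ hmax hx
  refine ⟨hroot, fun j => ?_⟩
  induction j with
  | zero =>
    intro _ a _ h
    exact ⟨1, one_mem _, by rw [one_mul]; simpa [eq_comm] using h⟩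
  | succ j ih =>
    intro hj a ha h
    obtain ⟨b, hb, hb2⟩ := hroot (a ^ 2 ^ j) (by rw [← pow_add, ← two_mul, ← pow_succ']; exact h)
    have hcA : b ^ 2 ^ (k - j) ∈ A := pow_mem hb _
    have hpow : (b ^ 2 ^ (k - j)) ^ 2 ^ j = a ^ 2 ^ j := by
      rw [← pow_mul, ← pow_add, Nat.sub_add_cancel (by omega), hb2]
    have hbot : (a * (b ^ 2 ^ (k - j))⁻¹) ^ 2 ^ j = 1 := by
      rw [Commute.mul_pow (hab _ ha _ (inv_mem hcA)), inv_pow, hpow, mul_inv_cancel]
    obtain ⟨d, hd, hd2⟩ := ih (by omega) _ (mul_mem ha (inv_mem hcA)) hbot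
    refine ⟨d * b ^ 2 ^ (k - j - 1), mul_mem hd (pow_mem hb _), ?_⟩
    have he : b ^ 2 ^ (k - j) = b ^ 2 ^ (k - j - 1) * b ^ 2 ^ (k - j - 1) := by
      rw [← pow_add, ← two_mul, ← pow_succ']
      congr 2
      omega
    calc d * b ^ 2 ^ (k - j - 1) * (d * b ^ 2 ^ (k - j - 1))
        = d * d * (b ^ 2 ^ (k - j - 1) * b ^ 2 ^ (k - j - 1)) := by
          rw [mul_assoc, ← mul_assoc (b ^ 2 ^ (k - j - 1)) d, hab _ (pow_mem hb _) _ hd]
          group
      _ = a := by rw [hd2, ← he, inv_mul_cancel_right]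

/-- setting of the proof: a maximal abelian normal invariant subgroup containing the centre -/
theorem exists_maximal_abelian [Finite P] (κ : MulAut P) :
    ∃ A : Subgroup P, A.Normal ∧ Inv κ A ∧ (∀ a ∈ A, ∀ b ∈ A, a * b = b * a) ∧ center P ≤ A ∧
      ∀ B : Subgroup P, B.Normal → Inv κ B → (∀ a ∈ B, ∀ b ∈ B, a * b = b * a) → A ≤ B → B = A := by
  obtain ⟨A, hA, hmax⟩ := Set.Finite.exists_maximal
    (s := {A : Subgroup P | A.Normal ∧ Inv κ A ∧ (∀ a ∈ A, ∀ b ∈ A, a * b = b * a) ∧ center P ≤ A})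
    (Set.toFinite _)
    ⟨center P, inferInstance, inv_center κ, fun a ha b _ => (mem_center_iff.mp ha b).symm, le_rfl⟩
  exact ⟨A, hA.1, hA.2.1, hA.2.2.1, hA.2.2.2, fun B h1 h2 h3 h4 =>
    le_antisymm (hmax ⟨h1, h2, h3, hA.2.2.2.trans h4⟩ h4) h4⟩

/-- a maximal abelian normal invariant subgroup of exponent at least four is its own centraliser -/
theorem centralizer_maximal [Finite P] (hP : IsPGroup 2 P) (htr : InvTrans κ) {A : Subgroup P}
    (hAn : A.Normal) (hinv : Inv κ A) (hab : ∀ a ∈ A, ∀ b ∈ A, a * b = b * a) (hZA : center P ≤ A)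
    (hmax : ∀ B : Subgroup P, B.Normal → Inv κ B → (∀ a ∈ B, ∀ b ∈ B, a * b = b * a) → A ≤ B → B = A)
    {k : ℕ} (hspec : ∀ a ∈ A, a ^ 2 ^ (k + 2) = 1) (hexists : ∃ a ∈ A, a ^ 2 ^ (k + 1) ≠ 1) :
    ∀ y : P, (∀ a ∈ A, y * a = a * y) → y ∈ A := by
  classical
  haveI := hAn
  obtain ⟨a₀, ha₀, ha₀ne⟩ := hexists
  obtain ⟨hroot, hker⟩ := exists_root_of_pow_eq_one hP htr hinv hab hspec ha₀ ha₀ne
  have hzc : ∀ {a : P}, a ∈ center P → ∀ x : P, x * a = a * x := fun {a} ha x => mem_center_iff.mp ha x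
  have hkill1 : ∀ x : P, x * x = 1 → x ^ 2 ^ (k + 1) = 1 := by
    intro x hx
    rw [pow_succ', pow_mul, pow_two, hx, one_pow]
  have hth2 : ∀ a ∈ A, a ^ 2 ^ (k + 1) * a ^ 2 ^ (k + 1) = 1 := fun a ha => by
    rw [← pow_add, ← two_mul, ← pow_succ']
    exact hspec a ha
  have hthmul : ∀ a ∈ A, ∀ b ∈ A, (a * b) ^ 2 ^ (k + 1) = a ^ 2 ^ (k + 1) * b ^ 2 ^ (k + 1) :=
    fun a ha b hb => Commute.mul_pow (hab a ha b hb) _
  have hnorm : ∀ x : P, ∀ a ∈ A, x * a * x⁻¹ ∈ A := fun x a ha => hAn.conj_mem a ha x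
  by_contra hC
  push Not at hC
  obtain ⟨y₁, hy₁, hy₁A⟩ := hC
  haveI : (centralizer (A : Set P)).Normal :=
    ⟨fun c hc x => by
      rw [mem_centralizer_iff] at hc ⊢
      intro a ha
      have h := hc _ (hnorm x⁻¹ a ha)
      rw [inv_inv] at h
      calc a * (x * c * x⁻¹) = x * (x⁻¹ * a * x * c) * x⁻¹ := by group
        _ = x * (c * (x⁻¹ * a * x)) * x⁻¹ := by rw [h]
        _ = x * c * x⁻¹ * a := by group⟩
  obtain ⟨y₀, hy₀C, hy₀U, hy₀A⟩ := exists_mem_layer hP (A := A) (N := centralizer (A : Set P))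
    (fun a ha => mem_centralizer_iff.mpr fun b hb => hab b hb a ha)
    (fun h => hy₁A (h ▸ mem_centralizer_iff.mpr fun a ha => (hy₁ a ha).symm))
  set W := centralizer (A : Set P) ⊓ layer A with hW
  have hWc : ∀ w ∈ W, ∀ a ∈ A, a * w = w * a := fun w hw => mem_centralizer_iff.mp hw.1
  have hWU : ∀ w ∈ W, (∀ x : P, w * x * w⁻¹ * x⁻¹ ∈ A) ∧ w * w ∈ A := fun w hw => mem_layer.mp hw.2
  have hinvW : Inv κ W := fun w hw => by
    refine ⟨mem_centralizer_iff.mpr fun a ha => ?_, inv_layer hinv w hw.2⟩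
    obtain ⟨b, hb, rfl⟩ := hinv.exists_eq ha
    rw [← map_mul, ← map_mul, hWc w hw b hb]
  have hcomm2 : ∀ w ∈ W, ∀ v ∈ W, (w * v * w⁻¹ * v⁻¹) * (w * v * w⁻¹ * v⁻¹) = 1 := by
    intro w hw v hv
    set c := w * v * w⁻¹ * v⁻¹ with hc
    have hcA : c ∈ A := (hWU w hw).1 v
    have h1 : w * v = c * v * w := by rw [hc]; group
    have h2 : v * v * w = c * c * (v * v) * w := by
      calc v * v * w = w * (v * v) := hWc w hw _ (hWU v hv).2
        _ = c * v * (c * v * w) := by rw [← mul_assoc, h1, mul_assoc (c * v) w v, h1]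
        _ = c * (v * c) * v * w := by group
        _ = c * c * (v * v) * w := by rw [← hWc v hv c hcA]; group
    exact mul_eq_right.mp (mul_right_cancel h2).symm
  have hcz : ∀ w ∈ W, ∀ v ∈ W, w * v * w⁻¹ * v⁻¹ ∈ center P :=
    fun w hw v hv => invol_central hP htr (hcomm2 w hw v hv)
  have hsqker : ∀ w ∈ W, (w * w) ^ 2 ^ (k + 1) = 1 → w ∈ A := by
    intro w hw h
    obtain ⟨b, hb, hb2⟩ := hker (k + 1) le_rfl _ (hWU w hw).2 h
    have h3 : w * b⁻¹ * (w * b⁻¹) = 1 := by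
      rw [mul_assoc, ← mul_assoc b⁻¹ w b⁻¹, hWc w hw _ (inv_mem hb), mul_assoc w b⁻¹, ← mul_assoc,
        ← mul_inv_rev, hb2, mul_inv_cancel]
    simpa using mul_mem (hZA (invol_central hP htr h3)) hb
  have hsmul : ∀ w ∈ W, ∀ v ∈ W,
      (w * v * (w * v)) ^ 2 ^ (k + 1) = (w * w) ^ 2 ^ (k + 1) * (v * v) ^ 2 ^ (k + 1) := by
    intro w hw v hv
    have hc := hcz v hv w hw
    have h1 : w * v * (w * v) = (v * w * v⁻¹ * w⁻¹) * ((w * w) * (v * v)) := by
      calc w * v * (w * v) = w * (v * w * v⁻¹ * w⁻¹) * w * v * v := by group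
        _ = _ := by rw [hzc hc w]; group
    rw [h1, hthmul _ (hZA hc) _ (mul_mem (hWU w hw).2 (hWU v hv).2),
      hkill1 _ (hcomm2 v hv w hw), one_mul, hthmul _ (hWU w hw).2 _ (hWU v hv).2]
  have hβ := pairing_trivial hP htr W (fun w => (w * w) ^ 2 ^ (k + 1))
    (fun w v => w * v * w⁻¹ * v⁻¹) hinvW (fun w hw => hth2 _ (hWU w hw).2) hsmul
    (fun w hw => by simp only [map_pow, map_mul])
    (fun x hx => by
      let H : Subgroup P :=
        { carrier := {x | ∃ w ∈ W, (w * w) ^ 2 ^ (k + 1) = x}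
          mul_mem' := fun {x y} ⟨a, ha, hx⟩ ⟨b, hb, hy⟩ =>
            ⟨a * b, mul_mem ha hb, by rw [hsmul a ha b hb, hx, hy]⟩
          one_mem' := ⟨1, one_mem _, by rw [one_mul, one_pow]⟩
          inv_mem' := fun {x} ⟨a, ha, hx⟩ =>
            ⟨a⁻¹, inv_mem ha, by rw [← mul_inv_rev, inv_pow, hx]⟩ }
      exact invol_mem hP htr (H := H)
        (fun y ⟨a, ha, hy⟩ => ⟨κ a, hinvW a ha, by rw [← map_mul, ← map_pow, hy]⟩)
        ⟨y₀, ⟨hy₀C, hy₀U⟩, rfl⟩ (fun h => hy₀A (hsqker y₀ ⟨hy₀C, hy₀U⟩ h)) hx)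
    hcomm2
    (fun w hw w' hw' v hv => by
      calc w * w' * v * (w * w')⁻¹ * v⁻¹ = w * (w' * v * w'⁻¹ * v⁻¹) * (v * w⁻¹ * v⁻¹) := by group
        _ = (w' * v * w'⁻¹ * v⁻¹) * (w * v * w⁻¹ * v⁻¹) := by rw [hzc (hcz w' hw' v hv) w]; group
        _ = _ := hzc (hcz w hw v hv) _)
    (fun w hw v hv v' hv' => by
      calc w * (v * v') * w⁻¹ * (v * v')⁻¹ = (w * v * w⁻¹) * (w * v' * w⁻¹ * v'⁻¹) * v⁻¹ := by group
        _ = (w * v' * w⁻¹ * v'⁻¹) * (w * v * w⁻¹ * v⁻¹) := by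
          rw [hzc (hcz w hw v' hv') (w * v * w⁻¹)]; group
        _ = _ := hzc (hcz w hw v hv) _)
    (fun w hw h v hv => by
      have hwA : w ∈ A := hsqker w hw h
      rw [hWc v hv w hwA]; group)
    (fun v hv h w hw => by
      have hvA : v ∈ A := hsqker v hv h
      rw [← hWc w hw v hvA]; group)
    (fun w _ v _ => by simp only [map_mul, map_inv])
    (fun w _ => by group)
  haveI : W.Normal := ⟨fun w hw x => by
    have hA' : x * w * x⁻¹ * w⁻¹ ∈ A := by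
      have := inv_mem ((hWU w hw).1 x)
      simpa [mul_inv_rev, mul_assoc] using this
    have hle : A ≤ W := fun a ha => ⟨mem_centralizer_iff.mpr fun b hb => hab b hb a ha,
      mem_layer.mpr ⟨fun x => by
        have h := mul_mem ha (hnorm x a⁻¹ (inv_mem ha))
        simpa [mul_assoc] using h, mul_mem ha ha⟩⟩
    simpa using mul_mem (hle hA') hw⟩
  have hle : A ≤ W := fun a ha => ⟨mem_centralizer_iff.mpr fun b hb => hab b hb a ha,
    mem_layer.mpr ⟨fun x => by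
      have h := mul_mem ha (hnorm x a⁻¹ (inv_mem ha))
      simpa [mul_assoc] using h, mul_mem ha ha⟩⟩
  have hWA := hmax W inferInstance hinvW (fun w hw v hv => by
    have h := hβ w hw v hv
    rwa [mul_inv_eq_one, mul_inv_eq_iff_eq_mul] at h) hle
  exact hy₀A (hWA ▸ ⟨hy₀C, hy₀U⟩)

/-- no such subgroup of exponent at least eight can have the layer acting trivially modulo fourth powers -/
theorem exponent_contradiction [Finite P] (hP : IsPGroup 2 P) (htr : InvTrans κ) {A : Subgroup P}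
    [hAn : A.Normal] (hinv : Inv κ A) (hab : ∀ a ∈ A, ∀ b ∈ A, a * b = b * a) (hZA : center P ≤ A)
    (hCA : ∀ y : P, (∀ a ∈ A, y * a = a * y) → y ∈ A) (hAtop : A ≠ ⊤)
    {k : ℕ} (hk1 : 1 ≤ k) (hspec : ∀ a ∈ A, a ^ 2 ^ (k + 2) = 1) (hexists : ∃ a ∈ A, a ^ 2 ^ (k + 1) ≠ 1)
    (hsmall : ∀ y ∈ layer A, ∀ b ∈ A, (y * b * y⁻¹ * b⁻¹) ^ 2 ^ k = 1) : False := by
  classical
  obtain ⟨a₀, ha₀, ha₀ne⟩ := hexists
  obtain ⟨hroot, hker⟩ := exists_root_of_pow_eq_one hP htr hinv hab hspec ha₀ ha₀ne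
  have hzc : ∀ {a : P}, a ∈ center P → ∀ x : P, x * a = a * x := fun {a} ha x => mem_center_iff.mp ha x
  have hkill1 : ∀ x : P, x * x = 1 → x ^ 2 ^ (k + 1) = 1 := by
    intro x hx
    rw [pow_succ', pow_mul, pow_two, hx, one_pow]
  have hth2 : ∀ a ∈ A, a ^ 2 ^ (k + 1) * a ^ 2 ^ (k + 1) = 1 := fun a ha => by
    rw [← pow_add, ← two_mul, ← pow_succ']
    exact hspec a ha
  have hthmul : ∀ a ∈ A, ∀ b ∈ A, (a * b) ^ 2 ^ (k + 1) = a ^ 2 ^ (k + 1) * b ^ 2 ^ (k + 1) :=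
    fun a ha b hb => Commute.mul_pow (hab a ha b hb) _
  have hnorm : ∀ x : P, ∀ a ∈ A, x * a * x⁻¹ ∈ A := fun x a ha => hAn.conj_mem a ha x
  obtain ⟨y₁, -, hy₁U, hy₁A⟩ := exists_mem_layer hP (A := A) (N := ⊤) le_top hAtop
  set U := layer A with hU
  have hUA : ∀ y ∈ U, y * y ∈ A := fun y hy => (mem_layer.mp hy).2
  -- (ii) the action of `U` on `A`
  set δ : P → P → P := fun y b => y * b * y⁻¹ * b⁻¹ with hδ
  have hδA : ∀ y, ∀ b ∈ A, δ y b ∈ A := fun y b hb => mul_mem (hnorm y b hb) (inv_mem hb)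
  have hδmul : ∀ y, ∀ a ∈ A, ∀ b ∈ A, δ y (a * b) = δ y a * δ y b := by
    intro y a ha b hb
    calc δ y (a * b) = (y * a * y⁻¹) * (δ y b * a⁻¹) := by simp only [hδ]; group
      _ = (y * a * y⁻¹) * (a⁻¹ * δ y b) := by rw [hab _ (hδA y b hb) _ (inv_mem ha)]
      _ = δ y a * δ y b := by simp only [hδ]; group
  have hδone : ∀ y, δ y 1 = 1 := fun y => by simp [hδ]
  have hδpow : ∀ y, ∀ b ∈ A, ∀ m : ℕ, δ y (b ^ m) = δ y b ^ m := by
    intro y b hb m
    induction m with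
    | zero => rw [pow_zero, pow_zero, hδone]
    | succ m ih => rw [pow_succ, pow_succ, hδmul y _ (pow_mem hb m) b hb, ih]
  have hδcen : ∀ y, ∀ b ∈ center P, δ y b = 1 := fun y b hb => by
    simp only [hδ]; rw [hzc hb y]; group
  have hδsq : ∀ y ∈ U, ∀ b ∈ A, δ y b * δ y b = 1 := by
    intro y hy b hb
    -- `y` inverts `δ y b`
    have hinvert : ∀ b ∈ A, δ y (δ y b) = (δ y b * δ y b)⁻¹ := by
      intro b hb
      have h := hab _ (hUA y hy) b hb
      calc δ y (δ y b) = (y * y * b) * (y * y)⁻¹ * y * b⁻¹ * y⁻¹ * (δ y b)⁻¹ := by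
            simp only [hδ]; group
        _ = (b * (y * y)) * (y * y)⁻¹ * y * b⁻¹ * y⁻¹ * (δ y b)⁻¹ := by rw [h]
        _ = (δ y b * δ y b)⁻¹ := by simp only [hδ]; group
    -- `δ y` kills elements killed by four, hence takes fourth powers as values
    have hdiv : ∀ b ∈ A, ∃ c ∈ A, c ^ 4 = δ y b := by
      intro b hb
      have h1 : (δ y b) ^ 2 ^ k = 1 := by
        exact hsmall y hy b hb
      obtain ⟨c₁, hc₁, hc₁2⟩ := hker k (by omega) _ (hδA y b hb) h1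
      have h2 : c₁ ^ 2 ^ (k + 1) = 1 := by
        rw [pow_succ', pow_mul, pow_two, hc₁2]; exact h1
      obtain ⟨c, hc, hc2⟩ := hker (k + 1) le_rfl _ hc₁ h2
      exact ⟨c, hc, by rw [← hc₁2, ← hc2, pow_succ, pow_succ, pow_two, mul_assoc (c * c) c c]⟩
    have hdesc : ∀ m : ℕ, (∀ b ∈ A, δ y b ^ 2 ^ (m + 2) = 1) → ∀ b ∈ A, δ y b ^ 2 ^ (m + 1) = 1 := by
      intro m hm b hb
      obtain ⟨c, hc, hc4⟩ := hdiv b hb
      rw [pow_succ', pow_mul, pow_two, ← inv_inv (δ y b * δ y b), ← hinvert b hb, ← hc4, inv_pow,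
        hδpow y c hc, inv_eq_one, ← pow_mul, show 4 * 2 ^ m = 2 ^ (m + 2) by rw [pow_add]; ring]
      exact hm c hc
    have hall : ∀ i : ℕ, i ≤ k + 1 → ∀ b ∈ A, δ y b ^ 2 ^ (k + 2 - i) = 1 := by
      intro i
      induction i with
      | zero => intro _ b hb; exact hspec _ (hδA y b hb)
      | succ i ih =>
        intro hi b hb
        rw [show k + 2 - (i + 1) = (k - i) + 1 by omega]
        refine hdesc (k - i) (fun b hb => ?_) b hb
        rw [show k - i + 2 = k + 2 - i by omega]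
        exact ih (by omega) b hb
    have h := hall (k + 1) le_rfl b hb
    rw [show k + 2 - (k + 1) = 1 by omega, pow_one, pow_two] at h
    exact h
  have hδZ : ∀ y ∈ U, ∀ b ∈ A, δ y b ∈ center P := fun y hy b hb =>
    invol_central hP htr (hδsq y hy b hb)
  -- elements killed by four are fixed by the layer
  have hfix : ∀ y ∈ U, ∀ e ∈ A, e * e * (e * e) = 1 → δ y e = 1 ∧ y * e = e * y := by
    intro y hy e he h4
    have h : δ y e = 1 := by
      obtain ⟨d, hd, hde⟩ := hker 2 (by omega) e he (by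
        rw [show (2 : ℕ) ^ 2 = 2 + 2 by rfl, pow_add, pow_two]; exact h4)
      rw [← hde, hδmul y d hd d hd]
      exact hδsq y hy d hd
    refine ⟨h, ?_⟩
    simp only [hδ] at h
    rwa [mul_inv_eq_one, mul_inv_eq_iff_eq_mul] at h
  -- commutators inside `U`
  have hcomm : ∀ y ∈ U, ∀ v ∈ U, (y * v * y⁻¹ * v⁻¹ * (y * v * y⁻¹ * v⁻¹) * (y * v * y⁻¹ * v⁻¹ * (y * v * y⁻¹ * v⁻¹)) = 1) ∧
      (y * v * y⁻¹ * v⁻¹) * (y * v * y⁻¹ * v⁻¹) * δ v (y * v * y⁻¹ * v⁻¹) = δ y (v * v) := by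
    intro y hy v hv
    set c := y * v * y⁻¹ * v⁻¹ with hc
    have hcA : c ∈ A := (mem_layer.mp hy).1 v
    have hd := hδZ v hv c hcA
    have heq : c * c * δ v c = δ y (v * v) := by
      calc c * c * δ v c = c * (c * δ v c) := mul_assoc _ _ _
        _ = c * (δ v c * c) := by rw [hzc hd c]
        _ = δ y (v * v) := by simp only [hδ, hc]; group
    refine ⟨?_, heq⟩
    have h1 : c * c = δ y (v * v) * (δ v c)⁻¹ := by rw [← heq, mul_inv_cancel_right]
    have hi := hδsq v hv c hcA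
    rw [h1, inv_eq_of_mul_eq_one_right hi, mul_assoc, ← mul_assoc (δ v c), ← hzc hd (δ y (v * v)),
      mul_assoc (δ y (v * v)) (δ v c), hi, mul_one]
    exact hδsq y hy _ (hUA v hv)
  have hsq : ∀ y ∈ U, ∀ v ∈ U,
      y * v * (y * v) = (v * y * v⁻¹ * y⁻¹) * ((y * y) * (v * v)) := by
    intro y hy v hv
    calc y * v * (y * v) = y * (v * y * v⁻¹ * y⁻¹) * y * v * v := by group
      _ = _ := by rw [(hfix y hy _ ((mem_layer.mp hv).1 y) (hcomm v hv y hy).1).2]; group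
  have hkillc : ∀ y ∈ U, ∀ v ∈ U, (v * y * v⁻¹ * y⁻¹) ^ 2 ^ (k + 1) = 1 := by
    intro y hy v hv
    obtain ⟨hz, heq⟩ := hcomm v hv y hy
    rw [(hfix y hy _ ((mem_layer.mp hv).1 y) hz).1, mul_one] at heq
    rw [show k + 1 = 1 + (k - 1 + 1) by omega, pow_add, pow_mul, pow_one, pow_two, heq, pow_succ',
      pow_mul, pow_two, hδsq v hv _ (hUA y hy), one_pow]
  have hsqhom : ∀ y ∈ U, ∀ v ∈ U,
      (y * v * (y * v)) ^ 2 ^ (k + 1) = (y * y) ^ 2 ^ (k + 1) * (v * v) ^ 2 ^ (k + 1) := by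
    intro y hy v hv
    rw [hsq y hy v hv, hthmul _ ((mem_layer.mp hv).1 y) _ (mul_mem (hUA y hy) (hUA v hv)),
      hkillc y hy v hv, one_mul, hthmul _ (hUA y hy) _ (hUA v hv)]
  have hsqker : ∀ y ∈ U, (y * y) ^ 2 ^ (k + 1) = 1 → y ∈ A := by
    intro y hy h
    obtain ⟨b, hb, hb2⟩ := hker (k + 1) le_rfl _ (hUA y hy) h
    obtain ⟨e, he, he2⟩ := hker 1 (by omega) (δ y b) (hδA y b hb) (by
      rw [pow_one, pow_two]; exact hδsq y hy b hb)
    have he4 : e * e * (e * e) = 1 := by rw [he2]; exact hδsq y hy b hb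
    set d := b⁻¹ * e with hd
    have hdA : d ∈ A := mul_mem (inv_mem hb) he
    have hδd : δ y d = δ y b := by
      have h1 := hδmul y _ (inv_mem hb) _ hb
      rw [inv_mul_cancel, hδone] at h1
      rw [hd, hδmul y _ (inv_mem hb) _ he, (hfix y hy e he he4).1, mul_one, eq_inv_of_mul_eq_one_left h1.symm,
        inv_eq_of_mul_eq_one_right (hδsq y hy b hb)]
    have hd2 : d * d = (b * b)⁻¹ * δ y b := by
      rw [hd, ← he2, mul_assoc, ← mul_assoc e b⁻¹ e, ← hab _ (inv_mem hb) _ he, mul_assoc b⁻¹ e e, ← mul_assoc,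
        mul_inv_rev]
    have h3 : y * d * (y * d) = 1 := by
      calc y * d * (y * d) = δ y d * (d * ((y * y) * d)) := by simp only [hδ]; group
        _ = δ y d * (d * (d * (y * y))) := by rw [hab (y * y) (hUA y hy) d hdA]
        _ = δ y b * ((b * b)⁻¹ * δ y b * (b * b)) := by
          rw [hδd, ← mul_assoc d d, hd2, hb2]
        _ = δ y b * δ y b := by
          rw [mul_assoc _ (δ y b) (b * b), ← hzc (hδZ y hy b hb) (b * b), inv_mul_cancel_left]
        _ = 1 := hδsq y hy b hb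
    simpa using mul_mem (hZA (invol_central hP htr h3)) (inv_mem hdA)
  have hδl : ∀ y, ∀ y' ∈ U, ∀ b ∈ A, δ (y * y') b = δ y b * δ y' b := by
    intro y y' hy' b hb
    have hz := hδZ y' hy' b hb
    calc δ (y * y') b = y * δ y' b * (b * y⁻¹ * b⁻¹) := by simp only [hδ]; group
      _ = δ y' b * δ y b := by rw [hzc hz y]; simp only [hδ]; group
      _ = _ := (hzc hz _).symm
  have hU' : Inv κ U := inv_layer hinv
  have hsurj : ∀ x : P, x * x = 1 → ∃ w ∈ U, (w * w) ^ 2 ^ (k + 1) = x := by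
    intro x hx
    let H : Subgroup P :=
      { carrier := {x | ∃ w ∈ U, (w * w) ^ 2 ^ (k + 1) = x}
        mul_mem' := fun {x y} ⟨a, ha, hx⟩ ⟨b, hb, hy⟩ =>
          ⟨a * b, mul_mem ha hb, by rw [hsqhom a ha b hb, hx, hy]⟩
        one_mem' := ⟨1, one_mem _, by rw [one_mul, one_pow]⟩
        inv_mem' := fun {x} ⟨a, ha, hx⟩ =>
          ⟨a⁻¹, inv_mem ha, by rw [← mul_inv_rev, inv_pow, hx]⟩ }
    exact invol_mem hP htr (H := H)
      (fun y ⟨a, ha, hy⟩ => ⟨κ a, hU' a ha, by rw [← map_mul, ← map_pow, hy]⟩)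
      ⟨y₁, hy₁U, rfl⟩ (fun h => hy₁A (hsqker y₁ hy₁U h)) hx
  have hδself : ∀ y, ∀ v ∈ U, v ∈ A → δ y (v * v) = δ y v * δ y v := fun y v _ h => hδmul y v h v h
  have hH := pairing_trivial hP htr U (fun y => (y * y) ^ 2 ^ (k + 1)) (fun y v => δ y (v * v)) hU'
    (fun y hy => hth2 _ (hUA y hy)) hsqhom (fun y _ => by simp only [map_pow, map_mul]) hsurj
    (fun y hy v hv => hδsq y hy _ (hUA v hv))
    (fun y _ y' hy' v hv => hδl y y' hy' _ (hUA v hv))
    (fun y hy v hv v' hv' => by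
      have hz := (hcomm v' hv' v hv).1
      change δ y (v * v' * (v * v')) = δ y (v * v) * δ y (v' * v')
      rw [hsq v hv v' hv', hδmul y _ ((mem_layer.mp hv').1 v) _ (mul_mem (hUA v hv) (hUA v' hv')),
        (hfix y hy _ ((mem_layer.mp hv').1 v) hz).1, one_mul,
        hδmul y _ (hUA v hv) _ (hUA v' hv')])
    (fun y hy h v hv => by
      change y * (v * v) * y⁻¹ * (v * v)⁻¹ = 1
      rw [hab y (hsqker y hy h) _ (hUA v hv)]; group)
    (fun v hv h y hy => by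
      change δ y (v * v) = 1
      rw [hδself y v hv (hsqker v hv h)]
      exact hδsq y hy v (hsqker v hv h))
    (fun y _ v _ => by simp only [hδ, map_mul, map_inv])
    (fun y _ => by simp only [hδ]; group)
  -- so `U` centralises `A`
  apply hy₁A
  apply hCA
  intro b hb
  obtain ⟨v, hv, hv2⟩ := hsurj (b ^ 2 ^ (k + 1)) (hth2 b hb)
  have hbot : (b * (v * v)⁻¹) ^ 2 ^ (k + 1) = 1 := by
    rw [hthmul _ hb _ (inv_mem (hUA v hv)), inv_pow, hv2, mul_inv_cancel]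
  obtain ⟨d, hdA, hd2⟩ := hker (k + 1) le_rfl _ (mul_mem hb (inv_mem (hUA v hv))) hbot
  have h : δ y₁ b = 1 := by
    rw [show b = d * d * (v * v) by rw [hd2, inv_mul_cancel_right],
      hδmul y₁ _ (mul_mem hdA hdA) _ (hUA v hv), hδmul y₁ d hdA d hdA, hH y₁ hy₁U v hv, mul_one]
    exact hδsq y₁ hy₁U d hdA
  simp only [hδ] at h
  rwa [mul_inv_eq_one, mul_inv_eq_iff_eq_mul] at h


/-- **Higman**: the centre has exponent two -/
theorem center_mul_self [Finite P] (hP : IsPGroup 2 P) (htr : InvTrans κ)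
    (hne : ∃ x y : P, x * y ≠ y * x) : ∀ z ∈ center P, z * z = 1 := by
  classical
  haveI : Fact (Nat.Prime 2) := ⟨Nat.prime_two⟩
  by_contra hcon
  push Not at hcon
  obtain ⟨z₀, hz₀, hz₀2⟩ := hcon
  obtain ⟨A, hAn, hinv, hab, hZA, hmax⟩ := exists_maximal_abelian κ
  haveI := hAn
  -- every involution is the square of a central element
  have hsqrtZ : ∀ x : P, x * x = 1 → ∃ z ∈ center P, z * z = x := by
    intro x hx
    let H : Subgroup P :=
      { carrier := {w | ∃ z ∈ center P, z * z = w}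
        mul_mem' := fun {v w} ⟨a, ha, hv⟩ ⟨b, hb, hw⟩ => ⟨a * b, mul_mem ha hb, by
          rw [mul_assoc, ← mul_assoc b a b, mem_center_iff.mp ha b, mul_assoc a b b, hw,
            ← mul_assoc, hv]⟩
        one_mem' := ⟨1, one_mem _, one_mul 1⟩
        inv_mem' := fun {w} ⟨a, ha, hw⟩ => ⟨a⁻¹, inv_mem ha, by rw [← mul_inv_rev, hw]⟩ }
    exact invol_mem hP htr (H := H)
      (fun w ⟨z, hz, hw⟩ => ⟨κ z, inv_center κ z hz, by rw [← map_mul, hw]⟩) ⟨z₀, hz₀, rfl⟩ hz₀2 hx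
  have hzc : ∀ {a : P}, a ∈ center P → ∀ x : P, x * a = a * x := fun {a} ha x => mem_center_iff.mp ha x
  -- elements killed by four are central
  have hfour : ∀ a : P, a * a * (a * a) = 1 → a ∈ center P := by
    intro a ha
    obtain ⟨z, hz, hz2⟩ := hsqrtZ (a * a) ha
    have h : a * z⁻¹ * (a * z⁻¹) = 1 := by
      rw [mul_assoc, ← mul_assoc z⁻¹ a z⁻¹, ← hzc (inv_mem hz) a, mul_assoc a z⁻¹, ← mul_assoc,
        ← mul_inv_rev, hz2, mul_inv_cancel]
    simpa using mul_mem (invol_central hP htr h) hz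
  -- the exponent `2 ^ (k + 1)` of `A`
  have hex : ∃ m, ∀ a ∈ A, a ^ 2 ^ m = 1 := by
    obtain ⟨m, hm⟩ := IsPGroup.iff_card.mp hP
    exact ⟨m, fun a _ => by rw [← hm]; exact pow_card_eq_one'⟩
  have hspec := Nat.find_spec hex
  obtain ⟨k, hk⟩ : ∃ k, Nat.find hex = k + 2 := by
    refine ⟨Nat.find hex - 2, (Nat.sub_add_cancel ?_).symm⟩
    by_contra hlt
    apply hz₀2
    have h1 : z₀ ^ 2 ^ 1 = 1 := by
      have h2 : z₀ ^ 2 ^ Nat.find hex = 1 := hspec z₀ (hZA hz₀)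
      exact orderOf_dvd_iff_pow_eq_one.mp
        ((orderOf_dvd_iff_pow_eq_one.mpr h2).trans (pow_dvd_pow 2 (by omega)))
    simpa [pow_two] using h1
  rw [hk] at hspec
  obtain ⟨a₀, ha₀, ha₀ne⟩ : ∃ a ∈ A, a ^ 2 ^ (k + 1) ≠ 1 := by
    have h := Nat.find_min hex (m := k + 1) (by omega)
    push Not at h
    exact h
  obtain ⟨hroot, hker⟩ := exists_root_of_pow_eq_one hP htr hinv hab hspec ha₀ ha₀ne
  have hCA := centralizer_maximal hP htr hAn hinv hab hZA hmax hspec ⟨a₀, ha₀, ha₀ne⟩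
  -- `A` is proper and its exponent is at least eight
  have hk1 : 1 ≤ k := by
    by_contra hk0
    obtain ⟨x, y, hxy⟩ := hne
    have hk0 : k = 0 := by omega
    subst hk0
    have hc : ∀ a ∈ A, a ∈ center P := fun a ha => hfour a (by
      have := hspec a ha
      simpa [pow_succ, mul_assoc] using this)
    exact hxy (hab x (hCA x fun a ha => hzc (hc a ha) x) y (hCA y fun a ha => hzc (hc a ha) y))
  refine exponent_contradiction hP htr hinv hab hZA hCA (fun h => ?_) hk1 hspec ⟨a₀, ha₀, ha₀ne⟩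
    fun y _ b hb => ?_
  · obtain ⟨x, y, hxy⟩ := hne
    exact hxy (hab x (h ▸ mem_top x) y (h ▸ mem_top y))
  · have hz : b ^ 2 ^ k ∈ center P := hfour _ (by
      rw [← pow_add, ← pow_add, show 2 ^ k + 2 ^ k + (2 ^ k + 2 ^ k) = 2 ^ (k + 2) by rw [pow_add]; ring]
      exact hspec b hb)
    have hcomm : Commute (y * b * y⁻¹) b⁻¹ := hab _ (hAn.conj_mem b hb y) _ (inv_mem hb)
    rw [hcomm.mul_pow, conj_pow, inv_pow, hzc hz y, mul_inv_cancel_right, mul_inv_cancel]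

end Cfsg.Agent.Lib.Suzuki
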