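import Cfsg.Agent.Lib.Suzuki.Order

/-!
A non-abelian 2-group with exactly three involutions, permuted transitively by an automorphism, is
determined up to isomorphism: a normal form of generators and relations.
-/

set_option autoImplicit false

namespace Cfsg.Agent.Lib.Suzuki

open Subgroup

universe u v

section Bound

variable {G : Type u} [Group G] [Finite G]

theorem card_closure_insert_le (S : Set G) (a : G) (ha : a * a ∈ closure S)
    (hconj : ∀ s ∈ S, a * s * a⁻¹ ∈ closure S) :
    Nat.card (closure (insert a S)) ≤ 2 * Nat.card (closure S) := by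
  classical
  set K := closure S with hK
  have hc : ∀ k ∈ K, a * k * a⁻¹ ∈ K := fun k hk => by
    have hle : K ≤ K.comap (MulAut.conj a).toMonoidHom := (closure_le _).mpr fun s hs => hconj s hs
    exact hle hk
  have hc' : ∀ k ∈ K, a⁻¹ * k * a ∈ K := fun k hk => by
    have := mul_mem (mul_mem (inv_mem ha) (hc k hk)) ha
    convert this using 1
    group
  let W : Subgroup G :=
    { carrier := {x | x ∈ K ∨ a⁻¹ * x ∈ K}
      mul_mem' := by
        rintro x y (hx | hx) (hy | hy)
        · exact Or.inl (mul_mem hx hy)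
        · refine Or.inr ?_
          have := mul_mem (hc' x hx) hy
          convert this using 1
          group
        · exact Or.inr (by rw [← mul_assoc]; exact mul_mem hx hy)
        · refine Or.inl ?_
          have := mul_mem (mul_mem (hc _ hx) ha) hy
          convert this using 1
          group
      one_mem' := Or.inl (one_mem _)
      inv_mem' := by
        rintro x (hx | hx)
        · exact Or.inl (inv_mem hx)
        · refine Or.inr ?_
          have := mul_mem (hc' _ (inv_mem hx)) (inv_mem ha)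
          convert this using 1
          group }
  have hW : closure (insert a S) ≤ W := (closure_le _).mpr fun x hx => by
    rcases Set.mem_insert_iff.mp hx with rfl | hx
    · exact Or.inr (by rw [inv_mul_cancel]; exact one_mem _)
    · exact Or.inl (subset_closure hx)
  let f : closure (insert a S) → Bool × K := fun x =>
    if h : (x : G) ∈ K then (false, ⟨x, h⟩) else (true, ⟨a⁻¹ * x, (hW x.2).resolve_left h⟩)
  have hf : Function.Injective f := by
    intro x y hxy
    simp only [f] at hxy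
    split_ifs at hxy with hx hy hy
    · exact Subtype.ext (congrArg (fun p : Bool × K => (p.2 : G)) hxy)
    · exact absurd (congrArg Prod.fst hxy) (by simp)
    · exact absurd (congrArg Prod.fst hxy) (by simp)
    · exact Subtype.ext (mul_left_cancel (congrArg (fun p : Bool × K => (p.2 : G)) hxy))
  refine (Nat.card_le_card_of_injective f hf).trans (le_of_eq ?_)
  rw [Nat.card_prod, show Nat.card Bool = 2 by simp]

/-- The relations of the normal form. -/
structure SmallRel (G : Type u) [Group G] where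
  x₀ : G
  x₁ : G
  y₀ : G
  y₁ : G
  u₀ : G
  u₁ : G
  u₀_central : ∀ g : G, g * u₀ = u₀ * g
  u₁_central : ∀ g : G, g * u₁ = u₁ * g
  u₀_sq : u₀ * u₀ = 1
  u₁_sq : u₁ * u₁ = 1
  x₀_sq : x₀ * x₀ = u₀
  x₁_sq : x₁ * x₁ = u₁
  y₀_sq : y₀ * y₀ = u₁
  y₁_sq : y₁ * y₁ = u₀ * u₁
  x₀x₁ : x₀ * x₁ = x₁ * x₀
  y₀y₁ : y₀ * y₁ = y₁ * y₀
  x₀y₀ : x₀ * y₀ = u₀ * (y₀ * x₀)
  x₀y₁ : x₀ * y₁ = u₀ * u₁ * (y₁ * x₀)
  x₁y₀ : x₁ * y₀ = u₀ * u₁ * (y₀ * x₁)
  x₁y₁ : x₁ * y₁ = u₁ * (y₁ * x₁)

/-- The six distinguished elements. -/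
def SmallRel.gens (d : SmallRel G) : Set G := {d.y₁, d.y₀, d.x₁, d.x₀, d.u₁, d.u₀}

theorem conj_of_comm_rel {a b c : G} (h : a * b = c * (b * a)) : a * b * a⁻¹ = c * b := by
  rw [h]; group

theorem conj_of_comm_rel' {a b c : G} (hc : c * c = 1) (h : a * b = c * (b * a)) :
    b * a * b⁻¹ = c * a := by
  have : b * a = c * (a * b) := by rw [h, ← mul_assoc, hc, one_mul]
  exact conj_of_comm_rel this

theorem conj_of_comm {a b : G} (h : a * b = b * a) : a * b * a⁻¹ = b := by
  rw [h]; group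

theorem SmallRel.card_le (d : SmallRel G) : Nat.card (closure d.gens) ≤ 64 := by
  have h01 : d.u₀ * d.u₁ * (d.u₀ * d.u₁) = 1 := by
    rw [mul_assoc d.u₀, ← mul_assoc d.u₁, d.u₀_central d.u₁, mul_assoc d.u₀ d.u₁, d.u₁_sq, mul_one,
      d.u₀_sq]
  have hu : ∀ a : G, a * d.u₀ * a⁻¹ = d.u₀ ∧ a * d.u₁ * a⁻¹ = d.u₁ := fun a =>
    ⟨conj_of_comm (d.u₀_central a), conj_of_comm (d.u₁_central a)⟩
  have c0 : Nat.card (closure ({d.u₀} : Set G)) ≤ 2 := by
    have := card_closure_insert_le (∅ : Set G) d.u₀ (by rw [d.u₀_sq]; exact one_mem _) (by simp)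
    rw [insert_empty_eq, Subgroup.closure_empty, Subgroup.card_bot] at this
    exact this
  have c1 := card_closure_insert_le ({d.u₀} : Set G) d.u₁ (by rw [d.u₁_sq]; exact one_mem _) (by
    rintro s rfl; rw [(hu _).1]; exact subset_closure rfl)
  have m1 : ∀ {S : Set G}, d.u₀ ∈ S → d.u₁ ∈ S → d.u₀ * d.u₁ ∈ closure S := fun h0 h1 =>
    mul_mem (subset_closure h0) (subset_closure h1)
  have c2 := card_closure_insert_le ({d.u₁, d.u₀} : Set G) d.x₀
    (by rw [d.x₀_sq]; exact subset_closure (by simp)) (by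
    intro s hs
    simp only [Set.mem_insert_iff, Set.mem_singleton_iff] at hs
    rcases hs with rfl | rfl
    · rw [(hu _).2]; exact subset_closure (by simp)
    · rw [(hu _).1]; exact subset_closure (by simp))
  have c3 := card_closure_insert_le ({d.x₀, d.u₁, d.u₀} : Set G) d.x₁
    (by rw [d.x₁_sq]; exact subset_closure (by simp)) (by
    intro s hs
    simp only [Set.mem_insert_iff, Set.mem_singleton_iff] at hs
    rcases hs with rfl | rfl | rfl
    · rw [conj_of_comm d.x₀x₁.symm]; exact subset_closure (by simp)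
    · rw [(hu _).2]; exact subset_closure (by simp)
    · rw [(hu _).1]; exact subset_closure (by simp))
  have c4 := card_closure_insert_le ({d.x₁, d.x₀, d.u₁, d.u₀} : Set G) d.y₀
    (by rw [d.y₀_sq]; exact subset_closure (by simp)) (by
    intro s hs
    simp only [Set.mem_insert_iff, Set.mem_singleton_iff] at hs
    rcases hs with rfl | rfl | rfl | rfl
    · rw [conj_of_comm_rel' h01 d.x₁y₀]
      exact mul_mem (m1 (by simp) (by simp)) (subset_closure (by simp))
    · rw [conj_of_comm_rel' d.u₀_sq d.x₀y₀]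
      exact mul_mem (subset_closure (by simp)) (subset_closure (by simp))
    · rw [(hu _).2]; exact subset_closure (by simp)
    · rw [(hu _).1]; exact subset_closure (by simp))
  have c5 := card_closure_insert_le ({d.y₀, d.x₁, d.x₀, d.u₁, d.u₀} : Set G) d.y₁
    (by rw [d.y₁_sq]; exact m1 (by simp) (by simp)) (by
    intro s hs
    simp only [Set.mem_insert_iff, Set.mem_singleton_iff] at hs
    rcases hs with rfl | rfl | rfl | rfl | rfl
    · rw [conj_of_comm d.y₀y₁.symm]; exact subset_closure (by simp)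
    · rw [conj_of_comm_rel' d.u₁_sq d.x₁y₁]
      exact mul_mem (subset_closure (by simp)) (subset_closure (by simp))
    · rw [conj_of_comm_rel' h01 d.x₀y₁]
      exact mul_mem (m1 (by simp) (by simp)) (subset_closure (by simp))
    · rw [(hu _).2]; exact subset_closure (by simp)
    · rw [(hu _).1]; exact subset_closure (by simp))
  rw [SmallRel.gens]
  omega

/-- Two groups of order 64 in normal form are isomorphic. -/
theorem SmallRel.nonempty_mulEquiv {H : Type v} [Group H] [Finite H] (d : SmallRel G) (e : SmallRel H)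
    (hd : closure d.gens = ⊤) (he : closure e.gens = ⊤) (hG : Nat.card G = 64) (hH : Nat.card H = 64) :
    Nonempty (G ≃* H) := by
  classical
  let p : SmallRel (G × H) :=
    { x₀ := (d.x₀, e.x₀), x₁ := (d.x₁, e.x₁), y₀ := (d.y₀, e.y₀), y₁ := (d.y₁, e.y₁)
      u₀ := (d.u₀, e.u₀), u₁ := (d.u₁, e.u₁)
      u₀_central := fun g => Prod.ext (d.u₀_central _) (e.u₀_central _)
      u₁_central := fun g => Prod.ext (d.u₁_central _) (e.u₁_central _)
      u₀_sq := Prod.ext d.u₀_sq e.u₀_sq
      u₁_sq := Prod.ext d.u₁_sq e.u₁_sq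
      x₀_sq := Prod.ext d.x₀_sq e.x₀_sq
      x₁_sq := Prod.ext d.x₁_sq e.x₁_sq
      y₀_sq := Prod.ext d.y₀_sq e.y₀_sq
      y₁_sq := Prod.ext d.y₁_sq e.y₁_sq
      x₀x₁ := Prod.ext d.x₀x₁ e.x₀x₁
      y₀y₁ := Prod.ext d.y₀y₁ e.y₀y₁
      x₀y₀ := Prod.ext d.x₀y₀ e.x₀y₀
      x₀y₁ := Prod.ext d.x₀y₁ e.x₀y₁
      x₁y₀ := Prod.ext d.x₁y₀ e.x₁y₀
      x₁y₁ := Prod.ext d.x₁y₁ e.x₁y₁ }
  set C := closure p.gens with hC
  have hC64 : Nat.card C ≤ 64 := p.card_le
  let f : C →* G := (MonoidHom.fst G H).comp C.subtype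
  let g : C →* H := (MonoidHom.snd G H).comp C.subtype
  have himg1 : p.gens.image (MonoidHom.fst G H) = d.gens := by
    simp [SmallRel.gens, Set.image_insert_eq, p]
  have himg2 : p.gens.image (MonoidHom.snd G H) = e.gens := by
    simp [SmallRel.gens, Set.image_insert_eq, p]
  have hfs : Function.Surjective f := by
    intro a
    have h : a ∈ C.map (MonoidHom.fst G H) := by
      rw [hC, MonoidHom.map_closure, himg1, hd]; exact mem_top a
    obtain ⟨c, hc, hca⟩ := h
    exact ⟨⟨c, hc⟩, hca⟩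
  have hgs : Function.Surjective g := by
    intro a
    have h : a ∈ C.map (MonoidHom.snd G H) := by
      rw [hC, MonoidHom.map_closure, himg2, he]; exact mem_top a
    obtain ⟨c, hc, hca⟩ := h
    exact ⟨⟨c, hc⟩, hca⟩
  have hCG : Nat.card C = Nat.card G :=
    le_antisymm (hG ▸ hC64) (Nat.card_le_card_of_surjective f hfs)
  have hCH : Nat.card C = Nat.card H :=
    le_antisymm (hH ▸ hC64) (Nat.card_le_card_of_surjective g hgs)
  have hfb : Function.Bijective f := (Nat.bijective_iff_surjective_and_card f).mpr ⟨hfs, hCG⟩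
  have hgb : Function.Bijective g := (Nat.bijective_iff_surjective_and_card g).mpr ⟨hgs, hCH⟩
  exact ⟨(MulEquiv.ofBijective f hfb).symm.trans (MulEquiv.ofBijective g hgb)⟩

end Bound

section Normal

variable {P : Type u} [Group P] [Finite P]

/-- The normal form of a non-abelian 2-group with three involutions permuted transitively. -/
theorem exists_smallRel (hP : IsPGroup 2 P) {κ₀ : MulAut P} (htr₀ : InvTrans κ₀)
    (hne : ∃ x y : P, x * y ≠ y * x) (h4 : Nat.card (omega hP htr₀) = 4) :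
    ∃ d : SmallRel P, closure d.gens = ⊤ ∧ Nat.card P = 64 := by
  classical
  haveI : Fact (Nat.Prime 2) := ⟨Nat.prime_two⟩
  set Z := center P with hZdef
  have hz2 := center_mul_self hP htr₀ hne
  have hzc : ∀ {a : P}, a ∈ Z → ∀ x : P, x * a = a * x := fun {a} ha x => mem_center_iff.mp ha x
  have hOZ : omega hP htr₀ = Z :=
    le_antisymm (fun x hx => invol_central hP htr₀ hx) fun z hz => hz2 z hz
  have hZ4 : Nat.card Z = 4 := by rw [← hOZ]; exact h4
  have hfour : ∀ z ∈ Z, ∀ w ∈ Z, z ≠ 1 → w ≠ 1 → z ≠ w →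
      ∀ v ∈ Z, v = 1 ∨ v = z ∨ v = w ∨ v = z * w := by
    intro z hz w hw hz1 hw1 hzw v hv
    haveI : Fintype Z := Fintype.ofFinite Z
    let e : Fin 4 → Z := ![1, ⟨z, hz⟩, ⟨w, hw⟩, ⟨z * w, mul_mem hz hw⟩]
    have hzw1 : z * w ≠ 1 := fun h => hzw (by
      calc z = z * (w * w) := by rw [hz2 w hw, mul_one]
        _ = w := by rw [← mul_assoc, h, one_mul])
    have hinj : Function.Injective e := by
      intro i j hij
      have hij' := congrArg Subtype.val hij
      fin_cases i <;> fin_cases j <;> simp [e] at hij' ⊢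
      all_goals first
        | exact hz1 hij' | exact hz1 hij'.symm | exact hw1 hij' | exact hw1 hij'.symm
        | exact hzw hij' | exact hzw hij'.symm | exact hzw1 hij' | exact hzw1 hij'.symm
        | exact hw1 (mul_eq_left.mp hij') | exact hw1 (mul_eq_left.mp hij'.symm)
        | exact hz1 (mul_eq_right.mp hij') | exact hz1 (mul_eq_right.mp hij'.symm)
    have hbij : Function.Bijective e := (Fintype.bijective_iff_injective_and_card e).mpr
      ⟨hinj, by rw [Fintype.card_fin, ← Nat.card_eq_fintype_card, hZ4]⟩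
    obtain ⟨i, hi⟩ := hbij.2 ⟨v, hv⟩
    have hi' := congrArg Subtype.val hi
    fin_cases i <;> simp [e] at hi' <;> simp [← hi']
  -- behaviour on the centre of an automorphism without fixed involutions
  have hperm : ∀ α : MulAut P, (∀ z ∈ Z, z ≠ 1 → α z ≠ z) →
      (∀ z ∈ Z, α (α z) = z * α z) ∧ (∀ z ∈ Z, α (α (α z)) = z) := by
    intro α hα
    have h2 : ∀ z ∈ Z, α (α z) = z * α z := by
      intro z hz
      by_cases hz1 : z = 1
      · subst hz1; simp
      have hαz : α z ∈ Z := inv_center α z hz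
      have hαz1 : α z ≠ 1 := fun h => hz1 (α.injective (by rw [h, map_one]))
      rcases hfour z hz (α z) hαz hz1 hαz1 (Ne.symm (hα z hz hz1)) (α (α z)) (inv_center α _ hαz) with
        h | h | h | h
      · exact absurd (α.injective (h.trans (map_one α).symm)) hαz1
      · exfalso
        refine hα (z * α z) (mul_mem hz hαz) (fun e => hα z hz hz1 ?_) ?_
        · calc α z = z * (z * α z) := by rw [← mul_assoc, hz2 z hz, one_mul]
            _ = z := by rw [e, mul_one]
        · rw [map_mul, h, hzc hαz z]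
      · exact absurd h (hα _ hαz hαz1)
      · exact h
    refine ⟨h2, fun z hz => ?_⟩
    rw [h2 z hz, map_mul, h2 z hz, ← mul_assoc, ← hzc (inv_center α z hz) z, mul_assoc,
      hz2 _ (inv_center α z hz), mul_one]
  have hfix₀ : ∀ z ∈ Z, z ≠ 1 → κ₀ z ≠ z := by
    intro z hz hz1 hfix
    obtain ⟨w, hw, hw'⟩ : ∃ w ∈ Z, w ≠ 1 ∧ w ≠ z := by
      by_contra! hcon
      haveI : Fintype Z := Fintype.ofFinite Z
      have hsub : (Finset.univ : Finset Z) ⊆ {1, ⟨z, hz⟩} := by
        intro v _
        by_cases hv : (v : P) = 1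
        · simp [Subtype.ext_iff, hv]
        · simp [Subtype.ext_iff, hcon v v.2 hv]
      have := Finset.card_le_card hsub
      rw [Finset.card_univ, ← Nat.card_eq_fintype_card, hZ4] at this
      exact absurd (this.trans (Finset.card_le_two)) (by omega)
    obtain ⟨j, hj⟩ := htr₀ z w hz1 (hz2 z hz) hw'.1 (hz2 w hw)
    have : ∀ j : ℕ, (κ₀ ^ j) z = z := by
      intro j
      induction j with
      | zero => rfl
      | succ j ih => rw [pow_succ', MulAut.mul_apply, ih, hfix]
    exact hw'.2 (hj.symm.trans (this j))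
  obtain ⟨h₀2, h₀3⟩ := hperm κ₀ hfix₀
  have hmod : ∀ j : ℕ, ∀ z ∈ Z, (κ₀ ^ j) z = (κ₀ ^ (j % 3)) z := by
    intro j
    induction j using Nat.strong_induction_on with
    | _ j ih =>
      intro z hz
      rcases Nat.lt_or_ge j 3 with h | h
      · rw [Nat.mod_eq_of_lt h]
      · obtain ⟨i, rfl⟩ : ∃ i, j = i + 3 := ⟨j - 3, by omega⟩
        rw [pow_add, MulAut.mul_apply, show (κ₀ ^ 3) z = z from h₀3 z hz, ih i (by omega) z hz,
          Nat.add_mod_right]
  obtain ⟨z₀, hz₀, hz₀1⟩ : ∃ z ∈ Z, z ≠ 1 := by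
    by_contra! hcon
    have : Z = ⊥ := (Subgroup.eq_bot_iff_forall _).mpr hcon
    rw [this, Subgroup.card_bot] at hZ4
    omega
  haveI : Finite (MulAut P) :=
    Finite.of_injective (fun e : MulAut P => (e : P → P)) DFunLike.coe_injective
  have h3o : 3 ∣ orderOf κ₀ := by
    have h := hmod (orderOf κ₀) z₀ hz₀
    rw [pow_orderOf_eq_one] at h
    rcases (show orderOf κ₀ % 3 = 0 ∨ orderOf κ₀ % 3 = 1 ∨ orderOf κ₀ % 3 = 2 by omega) with
      e | e | e <;> rw [e] at h
    · exact Nat.dvd_of_mod_eq_zero e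
    · exact absurd h.symm (by simpa using hfix₀ z₀ hz₀ hz₀1)
    · exfalso
      have h' : z₀ = κ₀ (κ₀ z₀) := h
      rw [h₀2 z₀ hz₀] at h'
      exact hz₀1 (κ₀.injective (by rw [map_one]; exact mul_eq_left.mp h'.symm))
  obtain ⟨a, m, hm, hom⟩ := Nat.exists_eq_pow_mul_and_not_dvd (orderOf_pos κ₀).ne' 3 (by omega)
  set κ := κ₀ ^ m with hκdef
  have hκa : κ ^ 3 ^ a = 1 := by rw [hκdef, ← pow_mul, mul_comm, ← hom, pow_orderOf_eq_one]
  have hfix : ∀ z ∈ Z, z ≠ 1 → κ z ≠ z := by
    intro z hz hz1 h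
    rw [hκdef, hmod m z hz] at h
    rcases (show m % 3 = 1 ∨ m % 3 = 2 by omega) with e | e <;> rw [e] at h
    · exact hfix₀ z hz hz1 (by simpa using h)
    · have h' : κ₀ (κ₀ z) = z := h
      rw [h₀2 z hz] at h'
      exact hz1 (κ₀.injective (by rw [map_one]; exact mul_eq_left.mp h'))
  obtain ⟨hκ2, hκ3⟩ := hperm κ hfix
  have htr : InvTrans κ := by
    intro x y hx1 hx hy1 hy
    have hxZ := invol_central hP htr₀ hx
    have hκxZ := inv_center κ x hxZ
    rcases hfour x hxZ (κ x) hκxZ hx1 (fun h => hx1 (κ.injective (by rw [h, map_one])))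
      (Ne.symm (hfix x hxZ hx1)) y (invol_central hP htr₀ hy) with h | h | h | h
    · exact absurd h hy1
    · exact ⟨0, by rw [h]; rfl⟩
    · exact ⟨1, by rw [h, pow_one]⟩
    · exact ⟨2, by rw [pow_two, MulAut.mul_apply, hκ2 x hxZ, h]⟩
  have hnofix1 : ∀ x : P, κ x = x → x = 1 := by
    intro x hx
    by_contra hx1
    let H : Subgroup P := (κ : P ≃* P).toMonoidHom.eqLocus (MonoidHom.id P)
    obtain ⟨t, ht, ht1, ht2⟩ := exists_invol_mem hP (H := H) (x := x) hx hx1
    exact hfix t (invol_central hP htr₀ ht2) ht1 ht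
  have hnf : NoFix κ := by
    intro N hN x hx hfixc
    let S : Set P := {y | x⁻¹ * y ∈ N}
    haveI : Fintype S := Fintype.ofFinite _
    have hS : ∀ y ∈ S, κ y ∈ S := fun y hy => by
      show x⁻¹ * κ y ∈ N
      have h2 := mul_mem hfixc (hN _ hy)
      rw [map_mul, map_inv] at h2
      simpa [mul_assoc] using h2
    let π : Equiv.Perm S := Equiv.ofBijective (fun y => ⟨κ y, hS y y.2⟩)
      (Finite.injective_iff_bijective.mp fun y z e =>
        Subtype.ext (κ.injective (congrArg Subtype.val e)))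
    have hπ : ∀ (i : ℕ) (y : S), (((π ^ i) y : S) : P) = (κ ^ i) y := by
      intro i
      induction i with
      | zero => intro y; simp
      | succ i ih =>
        intro y
        rw [pow_succ', Equiv.Perm.mul_apply, pow_succ', MulAut.mul_apply, ← ih]
        rfl
    have hπr : π ^ 3 ^ a = 1 := Equiv.ext fun y => Subtype.ext (by rw [hπ, hκa]; rfl)
    obtain ⟨k, hk⟩ := IsPGroup.iff_card.mp (hP.to_subgroup N)
    have hcardS : ¬ 3 ∣ Fintype.card S := by
      have hc : Fintype.card S = 2 ^ k := by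
        rw [← Nat.card_eq_fintype_card, ← hk]
        exact Nat.card_congr ⟨fun y => ⟨x⁻¹ * y, y.2⟩, fun z => ⟨x * z, by
          change x⁻¹ * (x * z) ∈ N; simp⟩, fun y => Subtype.ext (mul_inv_cancel_left x _),
          fun z => Subtype.ext (inv_mul_cancel_left x _)⟩
      rw [hc]
      intro h2
      have := Nat.prime_three.dvd_of_dvd_pow h2
      omega
    haveI : Fact (Nat.Prime 3) := ⟨Nat.prime_three⟩
    obtain ⟨y, hy⟩ := Equiv.Perm.exists_fixed_point_of_prime hcardS hπr
    have hy1 : (y : P) = 1 := hnofix1 _ (congrArg Subtype.val hy)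
    refine hx ?_
    have h2 : x⁻¹ * (y : P) ∈ N := y.2
    rw [hy1, mul_one] at h2
    simpa using inv_mem h2
  have hsq := sq_mem_center_of_noFix hP htr hnf hne
  -- commutators
  let c : P → P → P := fun x y => x * y * x⁻¹ * y⁻¹
  have hcZ : ∀ x y : P, c x y ∈ Z := fun x y => by
    have e : c x y = x * y * (x * y) * (y⁻¹ * (x * x)⁻¹ * y⁻¹⁻¹) * (y * y)⁻¹ := by
      simp only [c]; group
    rw [e]
    exact mul_mem (mul_mem (hsq _) ((inferInstance : Z.Normal).conj_mem _ (inv_mem (hsq x)) y⁻¹))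
      (inv_mem (hsq y))
  have hcsym : ∀ x y, c y x = c x y := fun x y => by
    calc c y x = (c x y)⁻¹ := by simp only [c]; group
      _ = c x y := inv_eq_of_mul_eq_one_right (hz2 _ (hcZ x y))
  have hxy : ∀ x y, x * y = c x y * (y * x) := fun x y => by simp only [c]; group
  have hsqmul : ∀ x y, x * y * (x * y) = c x y * (x * x * (y * y)) := fun x y => by
    calc x * y * (x * y) = x * (y * x) * y := by group
      _ = x * (c y x * (x * y)) * y := by rw [← hxy]
      _ = c y x * (x * x * (y * y)) := by rw [← mul_assoc x, hzc (hcZ y x) x]; group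
      _ = _ := by rw [hcsym]
  have hcl : ∀ x x' y, c (x * x') y = c x y * c x' y := fun x x' y => by
    calc c (x * x') y = x * c x' y * x⁻¹ * c x y := by simp only [c]; group
      _ = c x' y * c x y := by rw [hzc (hcZ x' y) x, mul_inv_cancel_right]
      _ = _ := hzc (hcZ x y) _
  have hcr : ∀ x y y', c x (y * y') = c x y * c x y' := fun x y y' => by
    rw [← hcsym, hcl, hcsym x y, hcsym x y']
  have hcz : ∀ z ∈ Z, ∀ y, c z y = 1 := fun z hz y => by
    simp only [c]; rw [← hzc hz y]; group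
  have hcκ : ∀ x y, κ (c x y) = c (κ x) (κ y) := fun x y => by simp only [c, map_mul, map_inv]
  -- the quotient by the centre has order at most sixteen
  obtain ⟨dd, hd, eV, heV, heV1⟩ := exists_fin_model (V := P ⧸ Z) (fun w => by
    induction w using QuotientGroup.induction_on with
    | H y => exact (QuotientGroup.eq_one_iff _).mpr (hsq y))
  obtain ⟨nn, hn, eZ, heZ, heZ1⟩ := exists_fin_model (V := Z) (fun x => Subtype.ext (hz2 x x.2))
  have hnn : nn = 2 := Nat.pow_right_injective le_rfl (hn.symm.trans hZ4)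
  let sq : P ⧸ Z → Z := Quotient.lift (fun y : P => (⟨y * y, hsq y⟩ : Z)) (by
    intro s t hst
    rw [← Quotient.eq_iff_equiv] at hst
    obtain ⟨w, hw, rfl⟩ : ∃ w ∈ Z, t = s * w :=
      ⟨s⁻¹ * t, QuotientGroup.eq.mp hst, (mul_inv_cancel_left s t).symm⟩
    apply Subtype.ext
    change s * s = s * w * (s * w)
    rw [mul_assoc s w, ← mul_assoc w s w, ← hzc hw s, mul_assoc s w w, hz2 w hw, mul_one])
  let q : (Fin dd → ZMod 2) → (Fin nn → ZMod 2) := fun x => eZ (sq (eV.symm x))
  have hqa : ∀ s : P, q (eV (s : P ⧸ Z)) = eZ ⟨s * s, hsq s⟩ := fun s => by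
    simp only [q, Equiv.symm_apply_apply]; rfl
  have hproj : ∀ x, ∃ s : P, eV (s : P ⧸ Z) = x := fun x => by
    obtain ⟨w, rfl⟩ := eV.surjective x
    induction w using QuotientGroup.induction_on with
    | H s => exact ⟨s, rfl⟩
  have hq0 : q 0 = 0 := by
    have h := hqa 1
    rw [show ((1 : P) : P ⧸ Z) = 1 from rfl, heV1] at h
    rw [h, ← heZ1]
    exact congrArg eZ (Subtype.ext (one_mul 1))
  have hpolar : ∀ s t : P, QuadraticMap.polar q (eV (s : P ⧸ Z)) (eV (t : P ⧸ Z)) =
      eZ ⟨c s t, hcZ s t⟩ := by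
    intro s t
    rw [QuadraticMap.polar, ← heV, ← QuotientGroup.mk_mul, hqa, hqa, hqa]
    have h : (⟨s * t * (s * t), hsq (s * t)⟩ : Z) =
        ⟨c s t, hcZ s t⟩ * (⟨s * s, hsq s⟩ * ⟨t * t, hsq t⟩) := Subtype.ext (hsqmul s t)
    rw [h, heZ, heZ]
    abel
  have hle : dd ≤ 4 := by
    have := anisotropic_dim_le q hq0 (fun x x' y => by
      obtain ⟨s, rfl⟩ := hproj x
      obtain ⟨s', rfl⟩ := hproj x'
      obtain ⟨t, rfl⟩ := hproj y
      rw [hpolar, hpolar, ← heV, ← QuotientGroup.mk_mul, hpolar, ← heZ]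
      exact congrArg eZ (Subtype.ext (hcl s s' t))) (fun x hx => by
      obtain ⟨s, rfl⟩ := hproj x
      rw [hqa, ← heZ1] at hx
      have h1 : s * s = 1 := congrArg Subtype.val (eZ.injective hx)
      rw [(QuotientGroup.eq_one_iff s).mpr (invol_central hP htr h1), heV1])
    omega
  have hQ16 : Nat.card (P ⧸ Z) ≤ 16 := by
    rw [hd]; exact le_trans (Nat.pow_le_pow_right (by omega) hle) (by norm_num)
  -- the induced automorphism of the quotient
  have hkmap : Subgroup.map (κ : P ≃* P).toMonoidHom Z = Z := by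
    ext x
    constructor
    · rintro ⟨y, hy, rfl⟩; exact inv_center κ y hy
    · intro hx
      obtain ⟨y, hy, hxy'⟩ := (inv_center κ).exists_eq hx
      exact ⟨y, hy, hxy'⟩
  let τ : P ⧸ Z ≃* P ⧸ Z := QuotientGroup.congr Z Z κ hkmap
  have hτmk : ∀ x : P, τ (x : P ⧸ Z) = (κ x : P) := fun x => rfl
  have hQsq : ∀ w : P ⧸ Z, w * w = 1 := fun w => by
    induction w using QuotientGroup.induction_on with
    | H y => exact (QuotientGroup.eq_one_iff _).mpr (hsq y)
  have hQc : ∀ s t : P ⧸ Z, s * t = t * s := fun s t => by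
    calc s * t = s * (s * t * (s * t)) * t := by rw [hQsq, mul_one]
      _ = (s * s) * (t * s) * (t * t) := by group
      _ = _ := by rw [hQsq, hQsq, one_mul, mul_one]
  have hτfix : ∀ w, τ w = w → w = 1 := by
    intro w
    induction w using QuotientGroup.induction_on with
    | H x =>
      intro h
      refine (QuotientGroup.eq_one_iff x).mpr ?_
      by_contra hx
      exact hnf Z (inv_center κ) x hx (QuotientGroup.eq.mp h.symm)
  have hτiter : ∀ (j : ℕ) (x : P), (⇑τ)^[j] (x : P ⧸ Z) = ((κ ^ j) x : P) := by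
    intro j
    induction j with
    | zero => intro x; rfl
    | succ j ih => intro x; rw [Function.iterate_succ_apply', ih, hτmk, pow_succ', MulAut.mul_apply]
  have hper : ∀ w : P ⧸ Z, (⇑τ)^[9] w = w := by
    intro w
    have h1 : (⇑τ)^[3 ^ a] w = w := by
      induction w using QuotientGroup.induction_on with
      | H x => rw [hτiter, hκa]; rfl
    have hdvd : Function.minimalPeriod τ w ∣ 3 ^ a := Function.IsPeriodicPt.minimalPeriod_dvd h1
    obtain ⟨j, -, hj⟩ := (Nat.dvd_prime_pow Nat.prime_three).mp hdvd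
    have hle16 : Function.minimalPeriod τ w ≤ Nat.card (P ⧸ Z) := by
      have hinj : Function.Injective (fun i : Fin (Function.minimalPeriod τ w) => (⇑τ)^[(i : ℕ)] w) :=
        fun i k h => Fin.ext ((Function.iterate_eq_iterate_iff_of_lt_minimalPeriod i.2 k.2).mp h)
      simpa using Nat.card_le_card_of_injective _ hinj
    have hj2 : j ≤ 2 := by
      by_contra h3
      have : 3 ^ 3 ≤ 3 ^ j := Nat.pow_le_pow_right (by omega) (by omega)
      omega
    refine Function.isPeriodicPt_iff_minimalPeriod_dvd.mpr ?_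
    rw [hj]
    exact pow_dvd_pow 3 hj2 |>.trans (dvd_of_eq (by norm_num))
  let σ : P ⧸ Z →* P ⧸ Z := τ.toMonoidHom.comp (τ.toMonoidHom.comp τ.toMonoidHom)
  have hσ3 : ∀ w, σ (σ (σ w)) = w := fun w => hper w
  let D : Subgroup (P ⧸ Z) :=
    { carrier := {w | w * σ w * σ (σ w) = 1}
      one_mem' := by simp
      mul_mem' := fun {s t} hs ht => by
        show s * t * σ (s * t) * σ (σ (s * t)) = 1
        rw [map_mul, map_mul]
        calc s * t * (σ s * σ t) * (σ (σ s) * σ (σ t))
            = s * (t * σ s) * σ t * σ (σ s) * σ (σ t) := by group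
          _ = s * σ s * (t * σ t * σ (σ s)) * σ (σ t) := by rw [hQc t (σ s)]; group
          _ = (s * σ s * σ (σ s)) * (t * σ t * σ (σ t)) := by rw [hQc (t * σ t) (σ (σ s))]; group
          _ = 1 := by rw [hs, ht, one_mul]
      inv_mem' := fun {s} hs => by
        show s⁻¹ * σ s⁻¹ * σ (σ s⁻¹) = 1
        rw [inv_eq_of_mul_eq_one_right (hQsq s)]
        exact hs }
  have hDτ : ∀ w ∈ D, τ w ∈ D := fun w hw => by
    show τ w * σ (τ w) * σ (σ (τ w)) = 1
    rw [show σ (τ w) = τ (σ w) from rfl, show σ (τ (σ w)) = τ (σ (σ w)) from rfl, ← map_mul, ← map_mul,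
      show w * σ w * σ (σ w) = 1 from hw, map_one]
  have hDbot : ∀ w ∈ D, w = 1 := by
    intro v hv
    by_contra hv1
    haveI : Fintype (P ⧸ Z) := Fintype.ofFinite _
    have hDit : ∀ w ∈ D, ∀ i : ℕ, (⇑τ)^[i] w ∈ D := by
      intro w hw i
      induction i with
      | zero => exact hw
      | succ i ih => rw [Function.iterate_succ_apply']; exact hDτ _ ih
    have hmp : ∀ w ∈ D, w ≠ 1 → Function.minimalPeriod τ w = 9 := by
      intro w hw hw1
      obtain ⟨j, hj9, hj⟩ := (Nat.dvd_prime_pow Nat.prime_three).mp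
        (show Function.minimalPeriod τ w ∣ 3 ^ 2 from Function.IsPeriodicPt.minimalPeriod_dvd (hper w))
      by_contra h9
      refine hw1 ?_
      have h3 : (⇑τ)^[3] w = w := by
        refine Function.isPeriodicPt_iff_minimalPeriod_dvd.mpr ?_
        rw [hj]
        rcases (show j = 0 ∨ j = 1 ∨ j = 2 by omega) with rfl | rfl | rfl
        · norm_num
        · norm_num
        · exact absurd (hj.trans (by norm_num)) h9
      have hσw : σ w = w := h3
      have := (show w * σ w * σ (σ w) = 1 from hw)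
      rw [hσw, hσw, hQsq, one_mul] at this
      exact this
    let O : P ⧸ Z → Finset (P ⧸ Z) := fun w => (Finset.range 9).image fun i => (⇑τ)^[i] w
    have hO : ∀ w ∈ D, w ≠ 1 → (O w).card = 9 ∧ 1 ∉ O w := by
      intro w hw hw1
      refine ⟨?_, ?_⟩
      · rw [Finset.card_image_of_injOn, Finset.card_range]
        intro i hi k hk h
        rw [Finset.coe_range, Set.mem_Iio] at hi hk
        exact (Function.iterate_eq_iterate_iff_of_lt_minimalPeriod (by rw [hmp w hw hw1]; exact hi)
          (by rw [hmp w hw hw1]; exact hk)).mp h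
      · simp only [O, Finset.mem_image, not_exists, not_and]
        intro i _ h
        have hi : ∀ k : ℕ, (⇑τ)^[k] (1 : P ⧸ Z) = 1 := by
          intro k
          induction k with
          | zero => rfl
          | succ k ih => rw [Function.iterate_succ_apply', ih, map_one]
        exact hw1 ((τ.injective.iterate i) (h.trans (hi i).symm))
    obtain ⟨hc9, h1O⟩ := hO v hv hv1
    have hOD : ∀ w ∈ O v, w ∈ D := by
      intro w hw
      obtain ⟨i, -, rfl⟩ := Finset.mem_image.mp hw
      exact hDit v hv i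
    have hD10 : 10 ≤ Nat.card D := by
      have hsub : insert 1 (O v) ⊆ Finset.univ.filter (· ∈ D) := by
        intro w hw
        rw [Finset.mem_filter]
        refine ⟨Finset.mem_univ _, ?_⟩
        rcases Finset.mem_insert.mp hw with rfl | hw
        · exact one_mem _
        · exact hOD w hw
      have := Finset.card_le_card hsub
      rw [Finset.card_insert_of_notMem h1O, hc9] at this
      rwa [Nat.card_eq_fintype_card, Fintype.card_subtype]
    have hQ2 : IsPGroup 2 (P ⧸ Z) := hP.to_quotient Z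
    obtain ⟨k, hk⟩ := IsPGroup.iff_card.mp (hQ2.to_subgroup D)
    have hk4 : 16 ≤ Nat.card D := by
      rw [hk] at hD10 ⊢
      by_contra hlt
      have : k ≤ 3 := by
        by_contra h4
        exact hlt (le_trans (by norm_num) (Nat.pow_le_pow_right (show 0 < 2 by omega) (show 4 ≤ k by omega)))
      have := Nat.pow_le_pow_right (show 0 < 2 by omega) this
      omega
    have hDtop : D = ⊤ := Subgroup.eq_top_of_card_eq D
      (le_antisymm (Nat.card_le_card_of_injective _ Subtype.val_injective) (hQ16.trans hk4))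
    obtain ⟨v', -, hv'⟩ := Finset.exists_mem_notMem_of_card_lt_card
      (s := insert 1 (O v)) (t := Finset.univ) (by
        rw [Finset.card_insert_of_notMem h1O, hc9, Finset.card_univ, ← Nat.card_eq_fintype_card]
        have : Nat.card D ≤ Nat.card (P ⧸ Z) := Nat.card_le_card_of_injective _ Subtype.val_injective
        omega)
    rw [Finset.mem_insert, not_or] at hv'
    obtain ⟨hc9', h1O'⟩ := hO v' (hDtop ▸ mem_top v') hv'.1
    have hdisj : Disjoint (O v) (O v') := by
      rw [Finset.disjoint_left]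
      intro w hw hw'
      obtain ⟨i, hi, rfl⟩ := Finset.mem_image.mp hw
      obtain ⟨k', hk', hkk⟩ := Finset.mem_image.mp hw'
      rw [Finset.mem_range] at hi hk'
      apply hv'.2
      refine Finset.mem_image.mpr ⟨(i + (9 - k')) % 9, Finset.mem_range.mpr (Nat.mod_lt _ (by norm_num)), ?_⟩
      have e : (⇑τ)^[i + (9 - k')] v = v' := by
        rw [add_comm, Function.iterate_add_apply, ← hkk, ← Function.iterate_add_apply,
          show 9 - k' + k' = 9 by omega, hper]
      have hp : Function.IsPeriodicPt τ 9 v := hper v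
      show (⇑τ)^[(i + (9 - k')) % 9] v = v'
      rw [← e, hp.iterate_mod_apply]
    have := Finset.card_le_univ (O v ∪ O v')
    rw [Finset.card_union_of_disjoint hdisj, hc9, hc9', ← Nat.card_eq_fintype_card] at this
    omega
  have hkk : ∀ x : P, ∃ z ∈ Z, κ (κ x) = z * (x * κ x) := by
    intro x
    have hw3 : ∀ w : P ⧸ Z, σ w = w := by
      intro w
      have hmem : w * σ w ∈ D := by
        show w * σ w * σ (w * σ w) * σ (σ (w * σ w)) = 1
        rw [map_mul, map_mul, hσ3, show w * σ w * (σ w * σ (σ w)) * (σ (σ w) * w) =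
          w * (σ w * σ w) * (σ (σ w) * σ (σ w)) * w by group, hQsq, hQsq, mul_one, mul_one, hQsq]
      have := hDbot _ hmem
      calc σ w = w * (w * σ w) := by rw [← mul_assoc, hQsq, one_mul]
        _ = w := by rw [this, mul_one]
    let v : P ⧸ Z := (x : P)
    have hfixed : τ (v * τ v * τ (τ v)) = v * τ v * τ (τ v) := by
      rw [map_mul, map_mul, show τ (τ (τ v)) = v from hw3 v, hQc _ v, ← mul_assoc]
    have h1 := hτfix _ hfixed
    have h2 : τ (τ v) = v * τ v := by
      calc τ (τ v) = (v * τ v) * (v * τ v) * τ (τ v) := by rw [hQsq, one_mul]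
        _ = v * τ v * (v * τ v * τ (τ v)) := by group
        _ = _ := by rw [h1, mul_one]
    refine ⟨κ (κ x) * (x * κ x)⁻¹, ?_, by group⟩
    rw [← QuotientGroup.eq_one_iff]
    change τ (τ v) * (v * τ v)⁻¹ = 1
    rw [h2, mul_inv_cancel]
  -- identities
  have hself : ∀ x, c x (κ x) = 1 := by
    intro x
    obtain ⟨z, hz, he⟩ := hkk x
    have h1 : κ (κ x) * κ (κ x) = x * x * (κ x * κ x) := by
      rw [← map_mul, ← map_mul, hκ2 _ (hsq x), map_mul]
    rw [he] at h1
    have h2 : z * (x * κ x) * (z * (x * κ x)) = x * κ x * (x * κ x) := by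
      rw [mul_assoc z, ← mul_assoc (x * κ x) z, hzc hz (x * κ x), mul_assoc z, ← mul_assoc z z,
        hz2 z hz, one_mul]
    rw [h2, hsqmul] at h1
    exact mul_eq_right.mp h1
  have hleft : ∀ x y, c (κ x) y = c x y * κ (c x y) ∧ c x (κ y) = c x y * κ (c x y) := by
    intro x y
    set c₀ := c x y with hc₀
    set dl := c (κ x) y
    set dr := c x (κ y)
    obtain ⟨z, hz, he⟩ := hkk x
    obtain ⟨z', hz', he'⟩ := hkk y
    have e1 : κ dl = dr * κ c₀ := by
      rw [hcκ (κ x) y, he, hcl, hcz z hz, one_mul, hcl, ← hcκ x y]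
    have e2 : κ dr = dl * κ c₀ := by
      rw [hcκ x (κ y), he', hcr, hcsym z', hcz z' hz', one_mul, hcr, ← hcκ x y]
    have hd1 := hcZ (κ x) y
    have hc0 := hcZ x y
    have e3 : κ dl = c₀ := by
      have h' : dl * κ dl = κ dr * κ (κ c₀) :=
        (hκ2 dl hd1).symm.trans ((congrArg κ e1).trans (map_mul κ dr (κ c₀)))
      rw [e2, hκ2 c₀ hc0] at h'
      have key : ∀ p q : P, q ∈ Z → p * κ q * (q * κ q) = p * q := fun p q hq => by
        rw [mul_assoc, ← mul_assoc (κ q) q, ← hzc (inv_center κ _ hq) q, mul_assoc q,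
          hz2 _ (inv_center κ _ hq), mul_one]
      exact mul_left_cancel (h'.trans (key dl c₀ hc0))
    have e4 : dl = c₀ * κ c₀ := by
      rw [← hκ2 c₀ hc0, ← e3, hκ3 dl hd1]
    refine ⟨e4, ?_⟩
    calc dr = dr * (κ c₀ * κ c₀) := by rw [hz2 _ (inv_center κ _ hc0), mul_one]
      _ = κ dl * κ c₀ := by rw [← mul_assoc, ← e1]
      _ = c₀ * κ c₀ := by rw [e3]
  -- the normal form
  obtain ⟨x, hx⟩ : ∃ x : P, x ∉ Z := by
    obtain ⟨x, y, hxy'⟩ := hne
    exact ⟨x, fun h => hxy' (hzc h y).symm⟩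
  set z := x * x with hzdef
  have hzZ : z ∈ Z := hsq x
  have hz1 : z ≠ 1 := fun h => hx (invol_central hP htr h)
  have hkz : κ z ∈ Z := inv_center κ z hzZ
  have hkz1 : κ z ≠ 1 := fun h => hz1 (κ.injective (by rw [h, map_one]))
  have hzk : z * κ z ≠ 1 := fun h => hfix z hzZ hz1 (by
    calc κ z = z * z * κ z := by rw [hz2 z hzZ, one_mul]
      _ = z := by rw [mul_assoc, h, mul_one])
  obtain ⟨y, hcy⟩ : ∃ y, c x y = z := by
    obtain ⟨y₀, hy₀⟩ : ∃ y₀, c x y₀ ≠ 1 := by
      by_contra! hcon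
      exact hx (mem_center_iff.mpr fun g => by rw [hxy x g, hcon g, one_mul])
    rcases hfour z hzZ (κ z) hkz hz1 hkz1 (Ne.symm (hfix z hzZ hz1)) _ (hcZ x y₀) with h | h | h | h
    · exact absurd h hy₀
    · exact ⟨y₀, h⟩
    · refine ⟨κ y₀, ?_⟩
      rw [(hleft x y₀).2, h, hκ2 z hzZ, ← mul_assoc, ← hzc hkz z, mul_assoc, hz2 _ hkz, mul_one]
    · refine ⟨κ (κ y₀), ?_⟩
      have hk : κ (z * κ z) = z := by
        rw [map_mul, hκ2 z hzZ, ← mul_assoc, ← hzc hkz z, mul_assoc, hz2 _ hkz, mul_one]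
      have hd : c x (κ y₀) = κ z := by
        rw [(hleft x y₀).2, h, hk, mul_assoc, hzc hzZ (κ z), ← mul_assoc, hz2 _ hzZ, one_mul]
      rw [(hleft x (κ y₀)).2, hd, hκ2 z hzZ, ← mul_assoc, ← hzc hkz z, mul_assoc, hz2 _ hkz, mul_one]
  obtain ⟨y, hcy, hy2⟩ : ∃ y, c x y = z ∧ y * y = κ z := by
    have hy1 : y * y ≠ 1 := fun h => hz1 (by
      rw [← hcy, hcsym y x, hcz y (invol_central hP htr h)])
    rcases hfour z hzZ (κ z) hkz hz1 hkz1 (Ne.symm (hfix z hzZ hz1)) _ (hsq y) with h | h | h | h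
    · exact absurd h hy1
    · exfalso
      have h1 : κ x * y * (κ x * y) = 1 := by
        rw [hsqmul, (hleft x y).1, hcy, ← map_mul, ← hzdef, h, ← mul_assoc, mul_assoc z (κ z) (κ z),
          hz2 _ hkz, mul_one, hz2 _ hzZ]
      refine hz1 ?_
      have h2 := hcz _ (invol_central hP htr h1) x
      rwa [hcl, hcsym x (κ x), hself x, one_mul, hcsym x y, hcy] at h2
    · exact ⟨y, hcy, h⟩
    · refine ⟨κ x * y, ?_, ?_⟩
      · rw [hcr, hself, one_mul, hcy]
      · rw [hsqmul, (hleft x y).1, hcy, ← map_mul, ← hzdef, h]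
        calc z * κ z * (κ z * (z * κ z)) = z * (κ z * κ z) * (z * κ z) := by group
          _ = κ z := by rw [hz2 _ hkz, mul_one, ← mul_assoc, hz2 _ hzZ, one_mul]
  let d : SmallRel P :=
    { x₀ := x, x₁ := κ x, y₀ := y, y₁ := κ y, u₀ := z, u₁ := κ z
      u₀_central := hzc hzZ
      u₁_central := hzc hkz
      u₀_sq := hz2 z hzZ
      u₁_sq := hz2 _ hkz
      x₀_sq := rfl
      x₁_sq := by rw [← map_mul]
      y₀_sq := hy2
      y₁_sq := by rw [← map_mul, hy2, hκ2 z hzZ]
      x₀x₁ := by rw [hxy x (κ x), hself, one_mul]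
      y₀y₁ := by rw [hxy y (κ y), hself, one_mul]
      x₀y₀ := by rw [hxy x y, hcy]
      x₀y₁ := by rw [hxy x (κ y), (hleft x y).2, hcy]
      x₁y₀ := by rw [hxy (κ x) y, (hleft x y).1, hcy]
      x₁y₁ := by rw [hxy (κ x) (κ y), ← hcκ, hcy] }
  -- the sixteen cosets
  let pw : Bool → P → P := fun b g => if b then g else 1
  let wd : Bool × Bool × Bool × Bool → P := fun s =>
    pw s.1 x * pw s.2.1 (κ x) * pw s.2.2.1 y * pw s.2.2.2 (κ y)
  have hc1 : ∀ g, c g 1 = 1 := fun g => by simp only [c]; group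
  have hsame : ∀ g, c g g = 1 := fun g => by simp only [c]; group
  have hpx : ∀ s, c x (wd s) = pw s.2.2.1 z * pw s.2.2.2 (z * κ z) := by
    rintro ⟨s1, s2, s3, s4⟩
    simp only [wd, hcr]
    cases s1 <;> cases s2 <;> cases s3 <;> cases s4 <;>
      simp [pw, hc1, hsame, hself, hcy, (hleft x y).2]
  have hpy : ∀ s, c y (wd s) = pw s.1 z * pw s.2.1 (z * κ z) := by
    rintro ⟨s1, s2, s3, s4⟩
    simp only [wd, hcr]
    cases s1 <;> cases s2 <;> cases s3 <;> cases s4 <;>
      simp [pw, hc1, hsame, hself, hcsym x y, hcy, hcsym (κ x) y, (hleft x y).1]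
  have hsep : ∀ s1 s2 t1 t2 : Bool,
      pw s1 z * pw s2 (z * κ z) = pw t1 z * pw t2 (z * κ z) → s1 = t1 ∧ s2 = t2 := by
    intro s1 s2 t1 t2
    have h3 : z * (z * κ z) = κ z := by rw [← mul_assoc, hz2 z hzZ, one_mul]
    have n1 : z ≠ z * κ z := fun h => hkz1 (mul_eq_left.mp h.symm)
    have n2 : κ z ≠ z := hfix z hzZ hz1
    have n3 : z * κ z ≠ κ z := fun h => hz1 (mul_eq_right.mp h)
    cases s1 <;> cases s2 <;> cases t1 <;> cases t2 <;> intro h <;> simp [pw, h3] at h ⊢
    all_goals first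
      | exact hz1 h | exact hz1 h.symm | exact hkz1 h | exact hkz1 h.symm | exact hzk h | exact hzk h.symm
      | exact n1 h | exact n1 h.symm | exact n2 h | exact n2 h.symm | exact n3 h | exact n3 h.symm
  have hinj : Function.Injective (fun s => ((wd s : P) : P ⧸ Z)) := by
    intro s t hst
    obtain ⟨w, hw, he⟩ : ∃ w ∈ Z, wd t = wd s * w :=
      ⟨(wd s)⁻¹ * wd t, QuotientGroup.eq.mp hst, (mul_inv_cancel_left _ _).symm⟩
    have key : ∀ g, c g (wd s) = c g (wd t) := fun g =>
      ((congrArg (c g) he).trans ((hcr g (wd s) w).trans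
        (by rw [hcsym w g, hcz w hw, mul_one]))).symm
    have k1 := key x
    have k2 := key y
    rw [hpx, hpx] at k1
    rw [hpy, hpy] at k2
    obtain ⟨a1, a2⟩ := hsep _ _ _ _ k1
    obtain ⟨b1, b2⟩ := hsep _ _ _ _ k2
    exact Prod.ext b1 (Prod.ext b2 (Prod.ext a1 a2))
  have hcardQ : Nat.card (P ⧸ Z) = 16 := by
    refine le_antisymm hQ16 ?_
    simpa using Nat.card_le_card_of_injective _ hinj
  have hsur : Function.Surjective (fun s => ((wd s : P) : P ⧸ Z)) :=
    ((Nat.bijective_iff_injective_and_card _).mpr ⟨hinj, by rw [hcardQ]; simp⟩).2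
  refine ⟨d, ?_, ?_⟩
  · rw [eq_top_iff]
    intro g _
    obtain ⟨s, hs⟩ := hsur (g : P ⧸ Z)
    have hw : (wd s)⁻¹ * g ∈ Z := QuotientGroup.eq.mp hs
    have hgens : ∀ w ∈ d.gens, w ∈ closure d.gens := fun w hw => subset_closure hw
    have hzmem : ∀ w ∈ Z, w ∈ closure d.gens := by
      intro w hw
      rcases hfour z hzZ (κ z) hkz hz1 hkz1 (Ne.symm (hfix z hzZ hz1)) w hw with rfl | rfl | rfl | rfl
      · exact one_mem _
      · exact hgens _ (by simp [SmallRel.gens, d])
      · exact hgens _ (by simp [SmallRel.gens, d])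
      · exact mul_mem (hgens _ (by simp [SmallRel.gens, d])) (hgens _ (by simp [SmallRel.gens, d]))
    have hwd : wd s ∈ closure d.gens := by
      have hpw : ∀ (b : Bool) (w : P), w ∈ closure d.gens → pw b w ∈ closure d.gens := by
        intro b w hw; cases b
        · exact one_mem _
        · exact hw
      exact mul_mem (mul_mem (mul_mem (hpw _ _ (hgens _ (by simp [SmallRel.gens, d])))
        (hpw _ _ (hgens _ (by simp [SmallRel.gens, d])))) (hpw _ _ (hgens _ (by simp [SmallRel.gens, d]))))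
        (hpw _ _ (hgens _ (by simp [SmallRel.gens, d])))
    rw [show g = wd s * ((wd s)⁻¹ * g) by group]
    exact mul_mem hwd (hzmem _ hw)
  · rw [Subgroup.card_eq_card_quotient_mul_card_subgroup Z, hcardQ, hZ4]

end Normal

end Cfsg.Agent.Lib.Suzuki
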